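import Cfsg.Agent.Loc.B24p13d
set_option autoImplicit false
set_option maxRecDepth 1000000
set_option Elab.async false
namespace CA.Loc.B24p13
open CA.TC
theorem q_8 : rng (fB1 yf rk (PB X24 x L ts L0)) 204800 230400 9 = true := by decide +kernel
theorem q_9 : rng (fB1 yf rk (PB X24 x L ts L0)) 230400 256000 9 = true := by decide +kernel
theorem q_10 : rng (fB1 yf rk (PB X24 x L ts L0)) 256000 281600 9 = true := by decide +kernel
theorem q_11 : rng (fB1 yf rk (PB X24 x L ts L0)) 281600 306936 9 = true := by decide +kernel
end CA.Loc.B24p13
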