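import Cfsg.Agent.Fi.X24
import Cfsg.Agent.Loc.Cox
import Cfsg.Prelude.Def_Spor_Fi24
set_option autoImplicit false
set_option maxRecDepth 1000000
set_option Elab.async false
namespace CA.Loc.K8
open CA.TC
open CA.DC Cfsg.Spor
def M : List Ex := [0,1,2,3,5,8,9,12,13].map fun g => .w [g]
def st0 : List (Nat × Nat) := [(nat_lit 0,nat_lit 8),(nat_lit 31675,nat_lit 5),(nat_lit 31675,nat_lit 7),(nat_lit 31681,nat_lit 6),(nat_lit 31681,nat_lit 7),(nat_lit 31693,nat_lit 0),(nat_lit 31693,nat_lit 7),(nat_lit 31674,nat_lit 8),(nat_lit 31717,nat_lit 1),(nat_lit 31717,nat_lit 7),(nat_lit 31680,nat_lit 8),(nat_lit 31767,nat_lit 2),(nat_lit 31767,nat_lit 4),(nat_lit 31767,nat_lit 7),(nat_lit 31692,nat_lit 8),(nat_lit 698,nat_lit 5),(nat_lit 31859,nat_lit 3),(nat_lit 31859,nat_lit 4),(nat_lit 31859,nat_lit 7),(nat_lit 31858,nat_lit 7),(nat_lit 31716,nat_lit 8),(nat_lit 700,nat_lit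 5),(nat_lit 32021,nat_lit 4),(nat_lit 32021,nat_lit 7),(nat_lit 31763,nat_lit 1),(nat_lit 31763,nat_lit 7),(nat_lit 31765,nat_lit 8),(nat_lit 31766,nat_lit 8),(nat_lit 703,nat_lit 5),(nat_lit 697,nat_lit 6),(nat_lit 31846,nat_lit 1),(nat_lit 31846,nat_lit 7),(nat_lit 31861,nat_lit 8),(nat_lit 31714,nat_lit 0),(nat_lit 31714,nat_lit 7),(nat_lit 31860,nat_lit 8),(nat_lit 706,nat_lit 5),(nat_lit 708,nat_lit 5),(nat_lit 699,nat_lit 6),(nat_lit 31753,nat_lit 0),(nat_lit 31753,nat_lit 2),(nat_lit 31753,nat_lit 7),(nat_lit 32022,nat_lit 8),(nat_lit 712,nat_lit 5),(nat_lit 31690,nat_lit 6),(nat_lit 31690,nat_lit 7),(nat_lit 31764,nat_lit 8),(nat_lit 715,nat_lit 5),(nat_lit 701,nat_lit 6),(nat_lit 702,nat_lit 6),(nat_lit 11,nat_lit 0),(nat_lit 31707,nat_lit 2),(nat_lit 31707,nat_lit 6),(nat_lit 31707,nat_lit 7),(nat_lit 31810,nat_lit 7),(nat_lit 31847,nat_lit 8),(nat_lit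 724,nat_lit 5),(nat_lit 704,nat_lit 6),(nat_lit 31678,nat_lit 5),(nat_lit 31678,nat_lit 7),(nat_lit 31715,nat_lit 8),(nat_lit 729,nat_lit 5),(nat_lit 705,nat_lit 6),(nat_lit 19,nat_lit 0),(nat_lit 20,nat_lit 0),(nat_lit 31733,nat_lit 1),(nat_lit 31733,nat_lit 6),(nat_lit 31733,nat_lit 7),(nat_lit 31685,nat_lit 5),(nat_lit 31685,nat_lit 7),(nat_lit 31754,nat_lit 8),(nat_lit 31959,nat_lit 8),(nat_lit 745,nat_lit 5),(nat_lit 710,nat_lit 6),(nat_lit 29,nat_lit 0),(nat_lit 31673,nat_lit 7),(nat_lit 31673,nat_lit 8),(nat_lit 31691,nat_lit 8),(nat_lit 753,nat_lit 5),(nat_lit 713,nat_lit 6),(nat_lit 30,nat_lit 0),(nat_lit 12,nat_lit 1),(nat_lit 13,nat_lit 1),(nat_lit 31785,nat_lit 4),(nat_lit 31785,nat_lit 6),(nat_lit 31785,nat_lit 7),(nat_lit 31697,nat_lit 5),(nat_lit 31697,nat_lit 7),(nat_lit 31811,nat_lit 8),(nat_lit 31676,nat_lit 7),(nat_lit 31676,nat_lit 8),(nat_lit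 31708,nat_lit 8),(nat_lit 780,nat_lit 5),(nat_lit 779,nat_lit 5),(nat_lit 721,nat_lit 6),(nat_lit 42,nat_lit 0),(nat_lit 21,nat_lit 1),(nat_lit 31877,nat_lit 6),(nat_lit 31877,nat_lit 7),(nat_lit 31722,nat_lit 0),(nat_lit 31722,nat_lit 5),(nat_lit 31722,nat_lit 7),(nat_lit 31871,nat_lit 8),(nat_lit 31682,nat_lit 7),(nat_lit 31682,nat_lit 8),(nat_lit 31734,nat_lit 8),(nat_lit 744,nat_lit 5),(nat_lit 742,nat_lit 6),(nat_lit 14,nat_lit 2),(nat_lit 31773,nat_lit 0),(nat_lit 31773,nat_lit 5),(nat_lit 31773,nat_lit 7),(nat_lit 31772,nat_lit 8),(nat_lit 31694,nat_lit 8),(nat_lit 31769,nat_lit 8),(nat_lit 723,nat_lit 5),(nat_lit 31720,nat_lit 8),(nat_lit 31718,nat_lit 8),(nat_lit 711,nat_lit 5)]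
def st1 : List (Nat × Nat) := [(nat_lit 2,nat_lit 6),(nat_lit 698,nat_lit 0),(nat_lit 698,nat_lit 5),(nat_lit 700,nat_lit 1),(nat_lit 700,nat_lit 5),(nat_lit 703,nat_lit 2),(nat_lit 703,nat_lit 4),(nat_lit 703,nat_lit 5),(nat_lit 697,nat_lit 6),(nat_lit 706,nat_lit 3),(nat_lit 706,nat_lit 4),(nat_lit 706,nat_lit 5),(nat_lit 708,nat_lit 5),(nat_lit 699,nat_lit 6),(nat_lit 712,nat_lit 4),(nat_lit 712,nat_lit 5),(nat_lit 715,nat_lit 1),(nat_lit 715,nat_lit 5),(nat_lit 701,nat_lit 6),(nat_lit 702,nat_lit 6),(nat_lit 11,nat_lit 0),(nat_lit 724,nat_lit 1),(nat_lit 724,nat_lit 5),(nat_lit 704,nat_lit 6),(nat_lit 729,nat_lit 0),(nat_lit 729,nat_lit 5),(nat_lit 705,nat_lit 6),(nat_lit 19,nat_lit 0),(nat_lit 20,nat_lit 0),(nat_lit 745,nat_lit 0),(nat_lit 745,nat_lit 2),(nat_lit 745,nat_lit 5),(nat_lit 710,nat_lit 6),(nat_lit 29,nat_lit 0),(nat_lit 753,nat_lit 5),(nat_lit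 753,nat_lit 6),(nat_lit 713,nat_lit 6),(nat_lit 30,nat_lit 0),(nat_lit 12,nat_lit 1),(nat_lit 13,nat_lit 1),(nat_lit 780,nat_lit 2),(nat_lit 780,nat_lit 5),(nat_lit 780,nat_lit 6),(nat_lit 779,nat_lit 5),(nat_lit 721,nat_lit 6),(nat_lit 42,nat_lit 0),(nat_lit 21,nat_lit 1),(nat_lit 744,nat_lit 1),(nat_lit 744,nat_lit 5),(nat_lit 744,nat_lit 6),(nat_lit 742,nat_lit 6),(nat_lit 14,nat_lit 2),(nat_lit 723,nat_lit 4),(nat_lit 723,nat_lit 5),(nat_lit 723,nat_lit 6),(nat_lit 711,nat_lit 5),(nat_lit 711,nat_lit 6),(nat_lit 62,nat_lit 0),(nat_lit 43,nat_lit 0),(nat_lit 34,nat_lit 1),(nat_lit 25,nat_lit 2),(nat_lit 16,nat_lit 3)]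
def st2 : List (Nat × Nat) := [(nat_lit 696,nat_lit 0),(nat_lit 696,nat_lit 5),(nat_lit 697,nat_lit 1),(nat_lit 697,nat_lit 5),(nat_lit 699,nat_lit 2),(nat_lit 699,nat_lit 4),(nat_lit 699,nat_lit 5),(nat_lit 701,nat_lit 3),(nat_lit 701,nat_lit 4),(nat_lit 701,nat_lit 5),(nat_lit 702,nat_lit 5),(nat_lit 704,nat_lit 4),(nat_lit 704,nat_lit 5),(nat_lit 704,nat_lit 6),(nat_lit 705,nat_lit 1),(nat_lit 705,nat_lit 5),(nat_lit 710,nat_lit 1),(nat_lit 710,nat_lit 5),(nat_lit 710,nat_lit 6),(nat_lit 712,nat_lit 6),(nat_lit 713,nat_lit 0),(nat_lit 713,nat_lit 5),(nat_lit 721,nat_lit 0),(nat_lit 721,nat_lit 2),(nat_lit 721,nat_lit 5),(nat_lit 721,nat_lit 6),(nat_lit 724,nat_lit 6),(nat_lit 727,nat_lit 5),(nat_lit 741,nat_lit 2),(nat_lit 741,nat_lit 5),(nat_lit 741,nat_lit 6)]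
def st3 : List (Nat × Nat) := [(nat_lit 31692,nat_lit 0),(nat_lit 31692,nat_lit 4),(nat_lit 31716,nat_lit 1),(nat_lit 31716,nat_lit 3),(nat_lit 31716,nat_lit 4),(nat_lit 31764,nat_lit 2),(nat_lit 31765,nat_lit 2),(nat_lit 31860,nat_lit 2),(nat_lit 31847,nat_lit 1),(nat_lit 31847,nat_lit 4),(nat_lit 31861,nat_lit 4),(nat_lit 32022,nat_lit 4),(nat_lit 31959,nat_lit 4),(nat_lit 31753,nat_lit 2),(nat_lit 32021,nat_lit 2),(nat_lit 31846,nat_lit 2),(nat_lit 31714,nat_lit 4),(nat_lit 31859,nat_lit 1),(nat_lit 31859,nat_lit 4)]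
def st4 : List (Nat × Nat) := [(nat_lit 25,nat_lit 0),(nat_lit 25,nat_lit 3),(nat_lit 16,nat_lit 1),(nat_lit 16,nat_lit 3),(nat_lit 4,nat_lit 0),(nat_lit 4,nat_lit 2),(nat_lit 21,nat_lit 2),(nat_lit 21,nat_lit 4)]
def st5 : List (Nat × Nat) := [(nat_lit 5,nat_lit 0),(nat_lit 5,nat_lit 2),(nat_lit 14,nat_lit 2)]
def st6 : List (Nat × Nat) := [(nat_lit 726,nat_lit 0)]
def ls : List (Nat × List (Nat × Nat) × List (Ex × List Nat)) := [(0, st0, [(.t [nat_lit 3], [0]), (.t [nat_lit 4], [1]), (.t [nat_lit 5], [2]), (.t [nat_lit 6], [3]), (.t [nat_lit 8], [4]), (.t [nat_lit 2], [5]), (.t [nat_lit 696], [6])]), (2, st1, [(.t [nat_lit 3], [0]), (.t [nat_lit 4], [1]), (.t [nat_lit 5], [2]), (.t [nat_lit 6], [3]), (.t [nat_lit 8], [4]), (.t [nat_lit 2], [5]), (.t [nat_lit 0,nat_lit 10], [6,5,4,2,1,0,6,5,4,2,1,0,6,5,4,2,1,0,6,5,4,2,1,0,6,5,4,2,1,0])]), (696, st2, [(.t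 [nat_lit 4], [1]), (.t [nat_lit 5], [2]), (.t [nat_lit 6], [3]), (.t [nat_lit 8], [4]), (.t [nat_lit 0,nat_lit 10], [6])]), (31692, st3, [(.t [nat_lit 5], [1]), (.t [nat_lit 6], [2]), (.t [nat_lit 8], [3]), (.t [nat_lit 6,nat_lit 34], [2,4,0,1,0,2,4,0,1,0]), (.t [nat_lit 12,nat_lit 0,nat_lit 33,nat_lit 25], [4,3,2,1,0,4,3,2,1,0,4,3,2,1,0])]), (25, st4, [(.t [nat_lit 6], [1]), (.t [nat_lit 8], [2]), (.t [nat_lit 12,nat_lit 0,nat_lit 33,nat_lit 25], [4])]), (5, st5, [(.t [nat_lit 8], [1])]), (726, st6, [])]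
theorem hok : allL M (Ex.ok X24) = true := by decide +kernel
theorem hl : low X24 ls M = true := by decide +kernel
theorem hb : lbnd ls = 348364800 := by decide +kernel
def gl : List Fi24.Gen := [.c, .d, .e, .f, .g, .h, .i, .a, .b, .j, .l, .k]
def MM : List Ex := [0,1,2,3,4,5,6,8,9,11,12,13].map fun g => .w [g]
theorem hc : coxOK X24 MM (lab Fi24.edges gl) = true := by decide +kernel
theorem h1 : eqE X24 (mw MM [10]) (.pow (mw MM [7,8,0,1,2,3,5]) 9) = true := by decide +kernel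
theorem h2 : eqE X24 (.pow (mw MM [1,0,8,7,11,10,1,2,3,4,9,1,5,6]) 17) (.w []) = true := by decide +kernel
end CA.Loc.K8
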