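import Cfsg.Agent.Loc.Mat
import Cfsg.Agent.Loc.F22a
set_option autoImplicit false
set_option maxRecDepth 1000000
set_option Elab.async false
namespace CA.Mat.R78
open CA.TC CA.Loc CA.DC
def m0 : BT (List (Nat × Nat)) := (.node (.node (.node (.node (.node (.node (.node (.leaf [(nat_lit 0,nat_lit 1)]) (.leaf [(nat_lit 64,nat_lit 12)])) (.leaf [(nat_lit 32,nat_lit 12)])) (.node (.leaf [(nat_lit 16,nat_lit 1)]) (.leaf [(nat_lit 48,nat_lit 12)]))) (.node (.node (.node (.leaf [(nat_lit 8,nat_lit 1)]) (.leaf [(nat_lit 72,nat_lit 12)])) (.leaf [(nat_lit 40,nat_lit 12)])) (.node (.leaf [(nat_lit 24,nat_lit 12)]) (.leaf [(nat_lit 56,nat_lit 12)])))) (.node (.node (.node (.node (.leaf [(nat_lit 4,nat_lit 1)]) (.leaf [(nat_lit 68,nat_lit 12)])) (.leaf [(nat_lit 36,nat_lit 12)])) (.node (.leaf [(nat_lit 20,nat_lit 1)]) (.leaf [(nat_lit 52,nat_lit 12)]))) (.node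 (.node (.node (.leaf [(nat_lit 12,nat_lit 1)]) (.leaf [(nat_lit 76,nat_lit 12)])) (.leaf [(nat_lit 44,nat_lit 12)])) (.node (.leaf [(nat_lit 28,nat_lit 12)]) (.leaf [(nat_lit 60,nat_lit 12)]))))) (.node (.node (.node (.node (.node (.leaf [(nat_lit 2,nat_lit 1)]) (.leaf [(nat_lit 66,nat_lit 12)])) (.leaf [(nat_lit 34,nat_lit 12)])) (.node (.leaf [(nat_lit 18,nat_lit 1)]) (.leaf [(nat_lit 50,nat_lit 12)]))) (.node (.node (.node (.leaf [(nat_lit 10,nat_lit 1)]) (.leaf [(nat_lit 74,nat_lit 12)])) (.leaf [(nat_lit 42,nat_lit 12)])) (.node (.leaf [(nat_lit 26,nat_lit 12)]) (.leaf [(nat_lit 58,nat_lit 12)])))) (.node (.node (.node (.node (.leaf [(nat_lit 6,nat_lit 1)]) (.leaf [(nat_lit 70,nat_lit 12)])) (.leaf [(nat_lit 38,nat_lit 12)])) (.node (.leaf [(nat_lit 22,nat_lit 12)]) (.leaf [(nat_lit 54,nat_lit 12)]))) (.node (.node (.leaf [(nat_lit 14,nat_lit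 1)]) (.leaf [(nat_lit 46,nat_lit 12)])) (.node (.leaf [(nat_lit 30,nat_lit 12)]) (.leaf [(nat_lit 62,nat_lit 12)])))))) (.node (.node (.node (.node (.node (.node (.leaf [(nat_lit 1,nat_lit 1)]) (.leaf [(nat_lit 65,nat_lit 12)])) (.leaf [(nat_lit 33,nat_lit 12)])) (.node (.leaf [(nat_lit 17,nat_lit 1)]) (.leaf [(nat_lit 49,nat_lit 12)]))) (.node (.node (.node (.leaf [(nat_lit 9,nat_lit 1)]) (.leaf [(nat_lit 73,nat_lit 12)])) (.leaf [(nat_lit 41,nat_lit 12)])) (.node (.leaf [(nat_lit 25,nat_lit 12)]) (.leaf [(nat_lit 57,nat_lit 12)])))) (.node (.node (.node (.node (.leaf [(nat_lit 5,nat_lit 1)]) (.leaf [(nat_lit 69,nat_lit 12)])) (.leaf [(nat_lit 37,nat_lit 12)])) (.node (.leaf [(nat_lit 21,nat_lit 1)]) (.leaf [(nat_lit 53,nat_lit 12)]))) (.node (.node (.node (.leaf [(nat_lit 13,nat_lit 1)]) (.leaf [(nat_lit 77,nat_lit 12)])) (.leaf [(nat_lit 45,nat_lit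 12)])) (.node (.leaf [(nat_lit 29,nat_lit 12)]) (.leaf [(nat_lit 61,nat_lit 12)]))))) (.node (.node (.node (.node (.node (.leaf [(nat_lit 3,nat_lit 1)]) (.leaf [(nat_lit 67,nat_lit 12)])) (.leaf [(nat_lit 35,nat_lit 12)])) (.node (.leaf [(nat_lit 19,nat_lit 1)]) (.leaf [(nat_lit 51,nat_lit 12)]))) (.node (.node (.node (.leaf [(nat_lit 11,nat_lit 1)]) (.leaf [(nat_lit 75,nat_lit 12)])) (.leaf [(nat_lit 43,nat_lit 12)])) (.node (.leaf [(nat_lit 27,nat_lit 12)]) (.leaf [(nat_lit 59,nat_lit 12)])))) (.node (.node (.node (.node (.leaf [(nat_lit 7,nat_lit 1)]) (.leaf [(nat_lit 71,nat_lit 12)])) (.leaf [(nat_lit 39,nat_lit 12)])) (.node (.leaf [(nat_lit 23,nat_lit 12)]) (.leaf [(nat_lit 55,nat_lit 12)]))) (.node (.node (.leaf [(nat_lit 15,nat_lit 1)]) (.leaf [(nat_lit 47,nat_lit 12)])) (.node (.leaf [(nat_lit 31,nat_lit 12)]) (.leaf [(nat_lit 63,nat_lit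 12)])))))))
def m1 : BT (List (Nat × Nat)) := (.node (.node (.node (.node (.node (.node (.node (.leaf [(nat_lit 0,nat_lit 6),(nat_lit 38,nat_lit 2)]) (.leaf [(nat_lit 2,nat_lit 6),(nat_lit 60,nat_lit 7),(nat_lit 63,nat_lit 6),(nat_lit 64,nat_lit 6)])) (.leaf [(nat_lit 16,nat_lit 6),(nat_lit 32,nat_lit 6),(nat_lit 68,nat_lit 7),(nat_lit 69,nat_lit 7)])) (.node (.leaf [(nat_lit 16,nat_lit 6),(nat_lit 32,nat_lit 6),(nat_lit 68,nat_lit 6),(nat_lit 69,nat_lit 6)]) (.leaf [(nat_lit 9,nat_lit 6),(nat_lit 24,nat_lit 7),(nat_lit 48,nat_lit 6),(nat_lit 49,nat_lit 6)]))) (.node (.node (.node (.leaf [(nat_lit 8,nat_lit 6),(nat_lit 25,nat_lit 6),(nat_lit 46,nat_lit 7),(nat_lit 47,nat_lit 7)]) (.leaf [(nat_lit 4,nat_lit 10),(nat_lit 5,nat_lit 3),(nat_lit 17,nat_lit 3),(nat_lit 19,nat_lit 10),(nat_lit 20,nat_lit 10),(nat_lit 21,nat_lit 10),(nat_lit 33,nat_lit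 10),(nat_lit 35,nat_lit 3),(nat_lit 36,nat_lit 10),(nat_lit 37,nat_lit 10),(nat_lit 71,nat_lit 10),(nat_lit 72,nat_lit 3),(nat_lit 73,nat_lit 10),(nat_lit 75,nat_lit 3),(nat_lit 76,nat_lit 10),(nat_lit 77,nat_lit 3)])) (.leaf [(nat_lit 1,nat_lit 7),(nat_lit 39,nat_lit 6),(nat_lit 40,nat_lit 6),(nat_lit 41,nat_lit 6)])) (.node (.leaf [(nat_lit 9,nat_lit 6),(nat_lit 24,nat_lit 6),(nat_lit 48,nat_lit 7),(nat_lit 49,nat_lit 6)]) (.leaf [(nat_lit 12,nat_lit 6),(nat_lit 28,nat_lit 7),(nat_lit 54,nat_lit 6),(nat_lit 56,nat_lit 6)])))) (.node (.node (.node (.node (.leaf [(nat_lit 4,nat_lit 3),(nat_lit 5,nat_lit 10),(nat_lit 17,nat_lit 3),(nat_lit 19,nat_lit 3),(nat_lit 20,nat_lit 3),(nat_lit 21,nat_lit 10),(nat_lit 33,nat_lit 10),(nat_lit 35,nat_lit 10),(nat_lit 36,nat_lit 3),(nat_lit 37,nat_lit 10),(nat_lit 71,nat_lit 10),(nat_lit 72,nat_lit 10),(nat_lit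 73,nat_lit 10),(nat_lit 75,nat_lit 3),(nat_lit 76,nat_lit 3),(nat_lit 77,nat_lit 3)]) (.leaf [(nat_lit 16,nat_lit 6),(nat_lit 32,nat_lit 7),(nat_lit 68,nat_lit 6),(nat_lit 69,nat_lit 7)])) (.leaf [(nat_lit 4,nat_lit 3),(nat_lit 5,nat_lit 3),(nat_lit 17,nat_lit 3),(nat_lit 19,nat_lit 3),(nat_lit 20,nat_lit 10),(nat_lit 21,nat_lit 10),(nat_lit 33,nat_lit 3),(nat_lit 35,nat_lit 3),(nat_lit 36,nat_lit 3),(nat_lit 37,nat_lit 3),(nat_lit 71,nat_lit 10),(nat_lit 72,nat_lit 10),(nat_lit 73,nat_lit 3),(nat_lit 75,nat_lit 3),(nat_lit 76,nat_lit 10),(nat_lit 77,nat_lit 10)])) (.node (.leaf [(nat_lit 4,nat_lit 3),(nat_lit 5,nat_lit 3),(nat_lit 17,nat_lit 10),(nat_lit 19,nat_lit 10),(nat_lit 20,nat_lit 3),(nat_lit 21,nat_lit 3),(nat_lit 33,nat_lit 10),(nat_lit 35,nat_lit 10),(nat_lit 36,nat_lit 10),(nat_lit 37,nat_lit 10),(nat_lit 71,nat_lit 10),(nat_lit 72,nat_lit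 10),(nat_lit 73,nat_lit 3),(nat_lit 75,nat_lit 3),(nat_lit 76,nat_lit 10),(nat_lit 77,nat_lit 10)]) (.leaf [(nat_lit 11,nat_lit 6),(nat_lit 27,nat_lit 7),(nat_lit 52,nat_lit 6),(nat_lit 53,nat_lit 7)]))) (.node (.node (.node (.leaf [(nat_lit 12,nat_lit 6),(nat_lit 28,nat_lit 6),(nat_lit 54,nat_lit 7),(nat_lit 56,nat_lit 6)]) (.leaf [(nat_lit 4,nat_lit 3),(nat_lit 5,nat_lit 10),(nat_lit 17,nat_lit 3),(nat_lit 19,nat_lit 10),(nat_lit 20,nat_lit 10),(nat_lit 21,nat_lit 10),(nat_lit 33,nat_lit 10),(nat_lit 35,nat_lit 3),(nat_lit 36,nat_lit 10),(nat_lit 37,nat_lit 10),(nat_lit 71,nat_lit 3),(nat_lit 72,nat_lit 10),(nat_lit 73,nat_lit 3),(nat_lit 75,nat_lit 10),(nat_lit 76,nat_lit 3),(nat_lit 77,nat_lit 10)])) (.leaf [(nat_lit 7,nat_lit 6),(nat_lit 23,nat_lit 6),(nat_lit 44,nat_lit 6),(nat_lit 45,nat_lit 7)])) (.node (.leaf [(nat_lit 12,nat_lit 6),(nat_lit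 28,nat_lit 6),(nat_lit 54,nat_lit 6),(nat_lit 56,nat_lit 7)]) (.leaf [(nat_lit 2,nat_lit 6),(nat_lit 60,nat_lit 6),(nat_lit 63,nat_lit 6),(nat_lit 64,nat_lit 7)]))))) (.node (.node (.node (.node (.node (.leaf [(nat_lit 2,nat_lit 6),(nat_lit 60,nat_lit 6),(nat_lit 63,nat_lit 7),(nat_lit 64,nat_lit 6)]) (.leaf [(nat_lit 3,nat_lit 6),(nat_lit 65,nat_lit 7),(nat_lit 66,nat_lit 6),(nat_lit 67,nat_lit 6)])) (.leaf [(nat_lit 18,nat_lit 6),(nat_lit 34,nat_lit 6),(nat_lit 70,nat_lit 6),(nat_lit 74,nat_lit 6)])) (.node (.leaf [(nat_lit 18,nat_lit 6),(nat_lit 34,nat_lit 6),(nat_lit 70,nat_lit 7),(nat_lit 74,nat_lit 7)]) (.leaf [(nat_lit 10,nat_lit 6),(nat_lit 26,nat_lit 6),(nat_lit 50,nat_lit 6),(nat_lit 51,nat_lit 7)]))) (.node (.node (.node (.leaf [(nat_lit 10,nat_lit 6),(nat_lit 26,nat_lit 7),(nat_lit 50,nat_lit 6),(nat_lit 51,nat_lit 6)]) (.leaf [(nat_lit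 18,nat_lit 7),(nat_lit 34,nat_lit 6),(nat_lit 70,nat_lit 7),(nat_lit 74,nat_lit 6)])) (.leaf [(nat_lit 6,nat_lit 6),(nat_lit 22,nat_lit 6),(nat_lit 42,nat_lit 6),(nat_lit 43,nat_lit 6)])) (.node (.leaf [(nat_lit 10,nat_lit 7),(nat_lit 26,nat_lit 6),(nat_lit 50,nat_lit 6),(nat_lit 51,nat_lit 6)]) (.leaf [(nat_lit 14,nat_lit 7),(nat_lit 30,nat_lit 7),(nat_lit 58,nat_lit 6),(nat_lit 59,nat_lit 7)])))) (.node (.node (.node (.node (.leaf [(nat_lit 6,nat_lit 6),(nat_lit 22,nat_lit 7),(nat_lit 42,nat_lit 6),(nat_lit 43,nat_lit 7)]) (.leaf [(nat_lit 18,nat_lit 7),(nat_lit 34,nat_lit 6),(nat_lit 70,nat_lit 6),(nat_lit 74,nat_lit 7)])) (.leaf [(nat_lit 0,nat_lit 2),(nat_lit 38,nat_lit 7)])) (.node (.leaf [(nat_lit 6,nat_lit 7),(nat_lit 22,nat_lit 6),(nat_lit 42,nat_lit 6),(nat_lit 43,nat_lit 7)]) (.leaf [(nat_lit 12,nat_lit 7),(nat_lit 28,nat_lit 6),(nat_lit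 54,nat_lit 6),(nat_lit 56,nat_lit 6)]))) (.node (.node (.leaf [(nat_lit 14,nat_lit 6),(nat_lit 30,nat_lit 7),(nat_lit 58,nat_lit 7),(nat_lit 59,nat_lit 7)]) (.leaf [(nat_lit 8,nat_lit 7),(nat_lit 25,nat_lit 6),(nat_lit 46,nat_lit 6),(nat_lit 47,nat_lit 7)])) (.node (.leaf [(nat_lit 14,nat_lit 7),(nat_lit 30,nat_lit 6),(nat_lit 58,nat_lit 7),(nat_lit 59,nat_lit 7)]) (.leaf [(nat_lit 15,nat_lit 7),(nat_lit 31,nat_lit 6),(nat_lit 61,nat_lit 7),(nat_lit 62,nat_lit 6)])))))) (.node (.node (.node (.node (.node (.node (.leaf [(nat_lit 1,nat_lit 6),(nat_lit 39,nat_lit 6),(nat_lit 40,nat_lit 7),(nat_lit 41,nat_lit 6)]) (.leaf [(nat_lit 3,nat_lit 6),(nat_lit 65,nat_lit 6),(nat_lit 66,nat_lit 7),(nat_lit 67,nat_lit 6)])) (.leaf [(nat_lit 4,nat_lit 10),(nat_lit 5,nat_lit 10),(nat_lit 17,nat_lit 3),(nat_lit 19,nat_lit 10),(nat_lit 20,nat_lit 10),(nat_lit 21,nat_lit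 3),(nat_lit 33,nat_lit 3),(nat_lit 35,nat_lit 10),(nat_lit 36,nat_lit 3),(nat_lit 37,nat_lit 10),(nat_lit 71,nat_lit 10),(nat_lit 72,nat_lit 10),(nat_lit 73,nat_lit 10),(nat_lit 75,nat_lit 10),(nat_lit 76,nat_lit 10),(nat_lit 77,nat_lit 10)])) (.node (.leaf [(nat_lit 4,nat_lit 3),(nat_lit 5,nat_lit 3),(nat_lit 17,nat_lit 3),(nat_lit 19,nat_lit 10),(nat_lit 20,nat_lit 10),(nat_lit 21,nat_lit 3),(nat_lit 33,nat_lit 3),(nat_lit 35,nat_lit 10),(nat_lit 36,nat_lit 3),(nat_lit 37,nat_lit 10),(nat_lit 71,nat_lit 3),(nat_lit 72,nat_lit 3),(nat_lit 73,nat_lit 3),(nat_lit 75,nat_lit 3),(nat_lit 76,nat_lit 3),(nat_lit 77,nat_lit 3)]) (.leaf [(nat_lit 9,nat_lit 7),(nat_lit 24,nat_lit 6),(nat_lit 48,nat_lit 6),(nat_lit 49,nat_lit 6)]))) (.node (.node (.node (.leaf [(nat_lit 9,nat_lit 6),(nat_lit 24,nat_lit 6),(nat_lit 48,nat_lit 6),(nat_lit 49,nat_lit 7)])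 (.leaf [(nat_lit 4,nat_lit 10),(nat_lit 5,nat_lit 3),(nat_lit 17,nat_lit 3),(nat_lit 19,nat_lit 10),(nat_lit 20,nat_lit 3),(nat_lit 21,nat_lit 3),(nat_lit 33,nat_lit 10),(nat_lit 35,nat_lit 3),(nat_lit 36,nat_lit 3),(nat_lit 37,nat_lit 3),(nat_lit 71,nat_lit 10),(nat_lit 72,nat_lit 10),(nat_lit 73,nat_lit 3),(nat_lit 75,nat_lit 10),(nat_lit 76,nat_lit 3),(nat_lit 77,nat_lit 3)])) (.leaf [(nat_lit 1,nat_lit 6),(nat_lit 39,nat_lit 7),(nat_lit 40,nat_lit 6),(nat_lit 41,nat_lit 6)])) (.node (.leaf [(nat_lit 8,nat_lit 6),(nat_lit 25,nat_lit 6),(nat_lit 46,nat_lit 6),(nat_lit 47,nat_lit 6)]) (.leaf [(nat_lit 13,nat_lit 7),(nat_lit 29,nat_lit 6),(nat_lit 55,nat_lit 6),(nat_lit 57,nat_lit 6)])))) (.node (.node (.node (.node (.leaf [(nat_lit 4,nat_lit 10),(nat_lit 5,nat_lit 3),(nat_lit 17,nat_lit 3),(nat_lit 19,nat_lit 3),(nat_lit 20,nat_lit 3),(nat_lit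 21,nat_lit 10),(nat_lit 33,nat_lit 10),(nat_lit 35,nat_lit 10),(nat_lit 36,nat_lit 3),(nat_lit 37,nat_lit 10),(nat_lit 71,nat_lit 3),(nat_lit 72,nat_lit 3),(nat_lit 73,nat_lit 3),(nat_lit 75,nat_lit 10),(nat_lit 76,nat_lit 10),(nat_lit 77,nat_lit 10)]) (.leaf [(nat_lit 16,nat_lit 6),(nat_lit 32,nat_lit 7),(nat_lit 68,nat_lit 7),(nat_lit 69,nat_lit 6)])) (.leaf [(nat_lit 4,nat_lit 10),(nat_lit 5,nat_lit 10),(nat_lit 17,nat_lit 10),(nat_lit 19,nat_lit 10),(nat_lit 20,nat_lit 10),(nat_lit 21,nat_lit 10),(nat_lit 33,nat_lit 10),(nat_lit 35,nat_lit 10),(nat_lit 36,nat_lit 3),(nat_lit 37,nat_lit 3),(nat_lit 71,nat_lit 3),(nat_lit 72,nat_lit 10),(nat_lit 73,nat_lit 3),(nat_lit 75,nat_lit 3),(nat_lit 76,nat_lit 10),(nat_lit 77,nat_lit 3)])) (.node (.leaf [(nat_lit 4,nat_lit 10),(nat_lit 5,nat_lit 10),(nat_lit 17,nat_lit 3),(nat_lit 19,nat_lit 3),(nat_lit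 20,nat_lit 3),(nat_lit 21,nat_lit 3),(nat_lit 33,nat_lit 3),(nat_lit 35,nat_lit 3),(nat_lit 36,nat_lit 10),(nat_lit 37,nat_lit 10),(nat_lit 71,nat_lit 3),(nat_lit 72,nat_lit 10),(nat_lit 73,nat_lit 3),(nat_lit 75,nat_lit 3),(nat_lit 76,nat_lit 10),(nat_lit 77,nat_lit 3)]) (.leaf [(nat_lit 11,nat_lit 6),(nat_lit 27,nat_lit 7),(nat_lit 52,nat_lit 7),(nat_lit 53,nat_lit 6)]))) (.node (.node (.node (.leaf [(nat_lit 13,nat_lit 6),(nat_lit 29,nat_lit 6),(nat_lit 55,nat_lit 6),(nat_lit 57,nat_lit 7)]) (.leaf [(nat_lit 4,nat_lit 3),(nat_lit 5,nat_lit 10),(nat_lit 17,nat_lit 3),(nat_lit 19,nat_lit 3),(nat_lit 20,nat_lit 10),(nat_lit 21,nat_lit 3),(nat_lit 33,nat_lit 10),(nat_lit 35,nat_lit 10),(nat_lit 36,nat_lit 10),(nat_lit 37,nat_lit 3),(nat_lit 71,nat_lit 10),(nat_lit 72,nat_lit 3),(nat_lit 73,nat_lit 3),(nat_lit 75,nat_lit 10),(nat_lit 76,nat_lit 10),(nat_lit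 77,nat_lit 3)])) (.leaf [(nat_lit 7,nat_lit 6),(nat_lit 23,nat_lit 6),(nat_lit 44,nat_lit 7),(nat_lit 45,nat_lit 6)])) (.node (.leaf [(nat_lit 13,nat_lit 6),(nat_lit 29,nat_lit 6),(nat_lit 55,nat_lit 7),(nat_lit 57,nat_lit 6)]) (.leaf [(nat_lit 15,nat_lit 7),(nat_lit 31,nat_lit 6),(nat_lit 61,nat_lit 6),(nat_lit 62,nat_lit 7)]))))) (.node (.node (.node (.node (.node (.leaf [(nat_lit 3,nat_lit 6),(nat_lit 65,nat_lit 6),(nat_lit 66,nat_lit 6),(nat_lit 67,nat_lit 7)]) (.leaf [(nat_lit 3,nat_lit 7),(nat_lit 65,nat_lit 6),(nat_lit 66,nat_lit 6),(nat_lit 67,nat_lit 6)])) (.leaf [(nat_lit 4,nat_lit 10),(nat_lit 5,nat_lit 10),(nat_lit 17,nat_lit 10),(nat_lit 19,nat_lit 3),(nat_lit 20,nat_lit 10),(nat_lit 21,nat_lit 3),(nat_lit 33,nat_lit 10),(nat_lit 35,nat_lit 3),(nat_lit 36,nat_lit 3),(nat_lit 37,nat_lit 10),(nat_lit 71,nat_lit 10),(nat_lit 72,nat_lit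 3),(nat_lit 73,nat_lit 3),(nat_lit 75,nat_lit 3),(nat_lit 76,nat_lit 3),(nat_lit 77,nat_lit 10)])) (.node (.leaf [(nat_lit 4,nat_lit 3),(nat_lit 5,nat_lit 3),(nat_lit 17,nat_lit 10),(nat_lit 19,nat_lit 3),(nat_lit 20,nat_lit 10),(nat_lit 21,nat_lit 3),(nat_lit 33,nat_lit 10),(nat_lit 35,nat_lit 3),(nat_lit 36,nat_lit 3),(nat_lit 37,nat_lit 10),(nat_lit 71,nat_lit 3),(nat_lit 72,nat_lit 10),(nat_lit 73,nat_lit 10),(nat_lit 75,nat_lit 10),(nat_lit 76,nat_lit 10),(nat_lit 77,nat_lit 3)]) (.leaf [(nat_lit 10,nat_lit 6),(nat_lit 26,nat_lit 6),(nat_lit 50,nat_lit 7),(nat_lit 51,nat_lit 6)]))) (.node (.node (.node (.leaf [(nat_lit 11,nat_lit 6),(nat_lit 27,nat_lit 6),(nat_lit 52,nat_lit 6),(nat_lit 53,nat_lit 6)]) (.leaf [(nat_lit 4,nat_lit 3),(nat_lit 5,nat_lit 10),(nat_lit 17,nat_lit 3),(nat_lit 19,nat_lit 10),(nat_lit 20,nat_lit 3),(nat_lit 21,nat_lit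 3),(nat_lit 33,nat_lit 10),(nat_lit 35,nat_lit 3),(nat_lit 36,nat_lit 3),(nat_lit 37,nat_lit 3),(nat_lit 71,nat_lit 3),(nat_lit 72,nat_lit 3),(nat_lit 73,nat_lit 10),(nat_lit 75,nat_lit 3),(nat_lit 76,nat_lit 10),(nat_lit 77,nat_lit 10)])) (.leaf [(nat_lit 6,nat_lit 7),(nat_lit 22,nat_lit 7),(nat_lit 42,nat_lit 6),(nat_lit 43,nat_lit 6)])) (.node (.leaf [(nat_lit 11,nat_lit 6),(nat_lit 27,nat_lit 6),(nat_lit 52,nat_lit 7),(nat_lit 53,nat_lit 7)]) (.leaf [(nat_lit 14,nat_lit 7),(nat_lit 30,nat_lit 7),(nat_lit 58,nat_lit 7),(nat_lit 59,nat_lit 6)])))) (.node (.node (.node (.node (.leaf [(nat_lit 7,nat_lit 6),(nat_lit 23,nat_lit 7),(nat_lit 44,nat_lit 6),(nat_lit 45,nat_lit 6)]) (.leaf [(nat_lit 4,nat_lit 10),(nat_lit 5,nat_lit 3),(nat_lit 17,nat_lit 3),(nat_lit 19,nat_lit 3),(nat_lit 20,nat_lit 10),(nat_lit 21,nat_lit 3),(nat_lit 33,nat_lit 10),(nat_lit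 35,nat_lit 10),(nat_lit 36,nat_lit 10),(nat_lit 37,nat_lit 3),(nat_lit 71,nat_lit 3),(nat_lit 72,nat_lit 10),(nat_lit 73,nat_lit 10),(nat_lit 75,nat_lit 3),(nat_lit 76,nat_lit 3),(nat_lit 77,nat_lit 10)])) (.leaf [(nat_lit 1,nat_lit 6),(nat_lit 39,nat_lit 6),(nat_lit 40,nat_lit 6),(nat_lit 41,nat_lit 7)])) (.node (.leaf [(nat_lit 7,nat_lit 7),(nat_lit 23,nat_lit 6),(nat_lit 44,nat_lit 6),(nat_lit 45,nat_lit 6)]) (.leaf [(nat_lit 13,nat_lit 6),(nat_lit 29,nat_lit 7),(nat_lit 55,nat_lit 6),(nat_lit 57,nat_lit 6)]))) (.node (.node (.leaf [(nat_lit 15,nat_lit 6),(nat_lit 31,nat_lit 6),(nat_lit 61,nat_lit 7),(nat_lit 62,nat_lit 7)]) (.leaf [(nat_lit 8,nat_lit 7),(nat_lit 25,nat_lit 6),(nat_lit 46,nat_lit 7),(nat_lit 47,nat_lit 6)])) (.node (.leaf [(nat_lit 15,nat_lit 6),(nat_lit 31,nat_lit 6),(nat_lit 61,nat_lit 6),(nat_lit 62,nat_lit 6)]) (.leaf [(nat_lit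 2,nat_lit 7),(nat_lit 60,nat_lit 6),(nat_lit 63,nat_lit 6),(nat_lit 64,nat_lit 6)])))))))
def m2 : BT (List (Nat × Nat)) := (.node (.node (.node (.node (.node (.node (.node (.leaf [(nat_lit 0,nat_lit 1)]) (.leaf [(nat_lit 64,nat_lit 12)])) (.leaf [(nat_lit 32,nat_lit 1)])) (.node (.leaf [(nat_lit 16,nat_lit 12)]) (.leaf [(nat_lit 48,nat_lit 12)]))) (.node (.node (.node (.leaf [(nat_lit 8,nat_lit 12)]) (.leaf [(nat_lit 72,nat_lit 12)])) (.leaf [(nat_lit 40,nat_lit 12)])) (.node (.leaf [(nat_lit 24,nat_lit 1)]) (.leaf [(nat_lit 56,nat_lit 12)])))) (.node (.node (.node (.node (.leaf [(nat_lit 4,nat_lit 1)]) (.leaf [(nat_lit 68,nat_lit 12)])) (.leaf [(nat_lit 36,nat_lit 1)])) (.node (.leaf [(nat_lit 20,nat_lit 12)]) (.leaf [(nat_lit 52,nat_lit 12)]))) (.node (.node (.node (.leaf [(nat_lit 12,nat_lit 12)]) (.leaf [(nat_lit 76,nat_lit 12)])) (.leaf [(nat_lit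 44,nat_lit 12)])) (.node (.leaf [(nat_lit 28,nat_lit 1)]) (.leaf [(nat_lit 60,nat_lit 12)]))))) (.node (.node (.node (.node (.node (.leaf [(nat_lit 2,nat_lit 1)]) (.leaf [(nat_lit 66,nat_lit 12)])) (.leaf [(nat_lit 34,nat_lit 1)])) (.node (.leaf [(nat_lit 18,nat_lit 12)]) (.leaf [(nat_lit 50,nat_lit 12)]))) (.node (.node (.node (.leaf [(nat_lit 10,nat_lit 12)]) (.leaf [(nat_lit 74,nat_lit 12)])) (.leaf [(nat_lit 42,nat_lit 12)])) (.node (.leaf [(nat_lit 26,nat_lit 1)]) (.leaf [(nat_lit 58,nat_lit 12)])))) (.node (.node (.node (.node (.leaf [(nat_lit 6,nat_lit 12)]) (.leaf [(nat_lit 70,nat_lit 12)])) (.leaf [(nat_lit 38,nat_lit 12)])) (.node (.leaf [(nat_lit 22,nat_lit 1)]) (.leaf [(nat_lit 54,nat_lit 12)]))) (.node (.node (.leaf [(nat_lit 14,nat_lit 12)]) (.leaf [(nat_lit 46,nat_lit 12)])) (.node (.leaf [(nat_lit 30,nat_lit 1)]) (.leaf [(nat_lit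 62,nat_lit 12)])))))) (.node (.node (.node (.node (.node (.node (.leaf [(nat_lit 1,nat_lit 1)]) (.leaf [(nat_lit 65,nat_lit 12)])) (.leaf [(nat_lit 33,nat_lit 1)])) (.node (.leaf [(nat_lit 17,nat_lit 12)]) (.leaf [(nat_lit 49,nat_lit 12)]))) (.node (.node (.node (.leaf [(nat_lit 9,nat_lit 12)]) (.leaf [(nat_lit 73,nat_lit 12)])) (.leaf [(nat_lit 41,nat_lit 12)])) (.node (.leaf [(nat_lit 25,nat_lit 1)]) (.leaf [(nat_lit 57,nat_lit 12)])))) (.node (.node (.node (.node (.leaf [(nat_lit 5,nat_lit 1)]) (.leaf [(nat_lit 69,nat_lit 12)])) (.leaf [(nat_lit 37,nat_lit 1)])) (.node (.leaf [(nat_lit 21,nat_lit 12)]) (.leaf [(nat_lit 53,nat_lit 12)]))) (.node (.node (.node (.leaf [(nat_lit 13,nat_lit 12)]) (.leaf [(nat_lit 77,nat_lit 12)])) (.leaf [(nat_lit 45,nat_lit 12)])) (.node (.leaf [(nat_lit 29,nat_lit 1)]) (.leaf [(nat_lit 61,nat_lit 12)]))))) (.node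 (.node (.node (.node (.node (.leaf [(nat_lit 3,nat_lit 1)]) (.leaf [(nat_lit 67,nat_lit 12)])) (.leaf [(nat_lit 35,nat_lit 1)])) (.node (.leaf [(nat_lit 19,nat_lit 12)]) (.leaf [(nat_lit 51,nat_lit 12)]))) (.node (.node (.node (.leaf [(nat_lit 11,nat_lit 12)]) (.leaf [(nat_lit 75,nat_lit 12)])) (.leaf [(nat_lit 43,nat_lit 12)])) (.node (.leaf [(nat_lit 27,nat_lit 1)]) (.leaf [(nat_lit 59,nat_lit 12)])))) (.node (.node (.node (.node (.leaf [(nat_lit 7,nat_lit 12)]) (.leaf [(nat_lit 71,nat_lit 12)])) (.leaf [(nat_lit 39,nat_lit 12)])) (.node (.leaf [(nat_lit 23,nat_lit 1)]) (.leaf [(nat_lit 55,nat_lit 12)]))) (.node (.node (.leaf [(nat_lit 15,nat_lit 12)]) (.leaf [(nat_lit 47,nat_lit 12)])) (.node (.leaf [(nat_lit 31,nat_lit 1)]) (.leaf [(nat_lit 63,nat_lit 12)])))))))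
def m3 : BT (List (Nat × Nat)) := (.node (.node (.node (.node (.node (.node (.node (.leaf [(nat_lit 0,nat_lit 6),(nat_lit 11,nat_lit 2)]) (.leaf [(nat_lit 22,nat_lit 3),(nat_lit 24,nat_lit 10),(nat_lit 31,nat_lit 3),(nat_lit 34,nat_lit 10),(nat_lit 36,nat_lit 3),(nat_lit 37,nat_lit 3),(nat_lit 42,nat_lit 3),(nat_lit 46,nat_lit 3),(nat_lit 47,nat_lit 3),(nat_lit 49,nat_lit 10),(nat_lit 62,nat_lit 3),(nat_lit 63,nat_lit 10),(nat_lit 64,nat_lit 3),(nat_lit 70,nat_lit 10),(nat_lit 72,nat_lit 3),(nat_lit 73,nat_lit 10)])) (.leaf [(nat_lit 32,nat_lit 6),(nat_lit 45,nat_lit 7),(nat_lit 59,nat_lit 6),(nat_lit 65,nat_lit 7)])) (.node (.leaf [(nat_lit 3,nat_lit 7),(nat_lit 7,nat_lit 7),(nat_lit 14,nat_lit 7),(nat_lit 16,nat_lit 6)]) (.leaf [(nat_lit 35,nat_lit 6),(nat_lit 48,nat_lit 6),(nat_lit 61,nat_lit 6),(nat_lit 71,nat_lit 7)]))) (.node (.node (.node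 (.leaf [(nat_lit 2,nat_lit 7),(nat_lit 8,nat_lit 6),(nat_lit 20,nat_lit 7),(nat_lit 21,nat_lit 7)]) (.leaf [(nat_lit 22,nat_lit 3),(nat_lit 24,nat_lit 10),(nat_lit 31,nat_lit 10),(nat_lit 34,nat_lit 3),(nat_lit 36,nat_lit 10),(nat_lit 37,nat_lit 10),(nat_lit 42,nat_lit 10),(nat_lit 46,nat_lit 10),(nat_lit 47,nat_lit 10),(nat_lit 49,nat_lit 3),(nat_lit 62,nat_lit 3),(nat_lit 63,nat_lit 10),(nat_lit 64,nat_lit 3),(nat_lit 70,nat_lit 10),(nat_lit 72,nat_lit 3),(nat_lit 73,nat_lit 10)])) (.leaf [(nat_lit 29,nat_lit 7),(nat_lit 40,nat_lit 6),(nat_lit 50,nat_lit 7),(nat_lit 54,nat_lit 7)])) (.node (.leaf [(nat_lit 22,nat_lit 10),(nat_lit 24,nat_lit 3),(nat_lit 31,nat_lit 10),(nat_lit 34,nat_lit 10),(nat_lit 36,nat_lit 10),(nat_lit 37,nat_lit 3),(nat_lit 42,nat_lit 10),(nat_lit 46,nat_lit 10),(nat_lit 47,nat_lit 3),(nat_lit 49,nat_lit 10),(nat_lit 62,nat_lit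 3),(nat_lit 63,nat_lit 10),(nat_lit 64,nat_lit 10),(nat_lit 70,nat_lit 10),(nat_lit 72,nat_lit 10),(nat_lit 73,nat_lit 10)]) (.leaf [(nat_lit 26,nat_lit 7),(nat_lit 39,nat_lit 7),(nat_lit 56,nat_lit 6),(nat_lit 57,nat_lit 7)])))) (.node (.node (.node (.node (.leaf [(nat_lit 4,nat_lit 6),(nat_lit 6,nat_lit 6),(nat_lit 18,nat_lit 7),(nat_lit 19,nat_lit 7)]) (.leaf [(nat_lit 30,nat_lit 6),(nat_lit 44,nat_lit 7),(nat_lit 66,nat_lit 7),(nat_lit 68,nat_lit 6)])) (.leaf [(nat_lit 22,nat_lit 10),(nat_lit 24,nat_lit 10),(nat_lit 31,nat_lit 10),(nat_lit 34,nat_lit 10),(nat_lit 36,nat_lit 3),(nat_lit 37,nat_lit 3),(nat_lit 42,nat_lit 3),(nat_lit 46,nat_lit 10),(nat_lit 47,nat_lit 10),(nat_lit 49,nat_lit 3),(nat_lit 62,nat_lit 3),(nat_lit 63,nat_lit 10),(nat_lit 64,nat_lit 3),(nat_lit 70,nat_lit 3),(nat_lit 72,nat_lit 10),(nat_lit 73,nat_lit 3)])) (.node (.leaf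 [(nat_lit 2,nat_lit 7),(nat_lit 8,nat_lit 7),(nat_lit 20,nat_lit 6),(nat_lit 21,nat_lit 7)]) (.leaf [(nat_lit 27,nat_lit 7),(nat_lit 38,nat_lit 6),(nat_lit 52,nat_lit 6),(nat_lit 53,nat_lit 7)]))) (.node (.node (.node (.leaf [(nat_lit 1,nat_lit 7),(nat_lit 10,nat_lit 6),(nat_lit 12,nat_lit 6),(nat_lit 13,nat_lit 6)]) (.leaf [(nat_lit 25,nat_lit 6),(nat_lit 60,nat_lit 6),(nat_lit 75,nat_lit 6),(nat_lit 76,nat_lit 6)])) (.leaf [(nat_lit 30,nat_lit 6),(nat_lit 44,nat_lit 6),(nat_lit 66,nat_lit 7),(nat_lit 68,nat_lit 7)])) (.node (.leaf [(nat_lit 28,nat_lit 6),(nat_lit 41,nat_lit 7),(nat_lit 51,nat_lit 6),(nat_lit 55,nat_lit 6)]) (.leaf [(nat_lit 25,nat_lit 7),(nat_lit 60,nat_lit 6),(nat_lit 75,nat_lit 7),(nat_lit 76,nat_lit 6)]))))) (.node (.node (.node (.node (.node (.leaf [(nat_lit 2,nat_lit 6),(nat_lit 8,nat_lit 7),(nat_lit 20,nat_lit 7),(nat_lit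 21,nat_lit 7)]) (.leaf [(nat_lit 30,nat_lit 6),(nat_lit 44,nat_lit 7),(nat_lit 66,nat_lit 6),(nat_lit 68,nat_lit 7)])) (.leaf [(nat_lit 22,nat_lit 10),(nat_lit 24,nat_lit 10),(nat_lit 31,nat_lit 10),(nat_lit 34,nat_lit 3),(nat_lit 36,nat_lit 10),(nat_lit 37,nat_lit 3),(nat_lit 42,nat_lit 3),(nat_lit 46,nat_lit 3),(nat_lit 47,nat_lit 10),(nat_lit 49,nat_lit 10),(nat_lit 62,nat_lit 10),(nat_lit 63,nat_lit 10),(nat_lit 64,nat_lit 10),(nat_lit 70,nat_lit 10),(nat_lit 72,nat_lit 3),(nat_lit 73,nat_lit 3)])) (.node (.leaf [(nat_lit 4,nat_lit 7),(nat_lit 6,nat_lit 6),(nat_lit 18,nat_lit 6),(nat_lit 19,nat_lit 7)]) (.leaf [(nat_lit 29,nat_lit 7),(nat_lit 40,nat_lit 7),(nat_lit 50,nat_lit 6),(nat_lit 54,nat_lit 7)]))) (.node (.node (.node (.leaf [(nat_lit 1,nat_lit 6),(nat_lit 10,nat_lit 6),(nat_lit 12,nat_lit 6),(nat_lit 13,nat_lit 7)]) (.leaf [(nat_lit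 33,nat_lit 7),(nat_lit 43,nat_lit 6),(nat_lit 74,nat_lit 6),(nat_lit 77,nat_lit 6)])) (.leaf [(nat_lit 22,nat_lit 10),(nat_lit 24,nat_lit 10),(nat_lit 31,nat_lit 10),(nat_lit 34,nat_lit 3),(nat_lit 36,nat_lit 3),(nat_lit 37,nat_lit 10),(nat_lit 42,nat_lit 3),(nat_lit 46,nat_lit 10),(nat_lit 47,nat_lit 3),(nat_lit 49,nat_lit 10),(nat_lit 62,nat_lit 10),(nat_lit 63,nat_lit 3),(nat_lit 64,nat_lit 3),(nat_lit 70,nat_lit 10),(nat_lit 72,nat_lit 10),(nat_lit 73,nat_lit 10)])) (.node (.leaf [(nat_lit 26,nat_lit 6),(nat_lit 39,nat_lit 7),(nat_lit 56,nat_lit 7),(nat_lit 57,nat_lit 7)]) (.leaf [(nat_lit 23,nat_lit 7),(nat_lit 58,nat_lit 6),(nat_lit 67,nat_lit 7),(nat_lit 69,nat_lit 6)])))) (.node (.node (.node (.node (.leaf [(nat_lit 4,nat_lit 6),(nat_lit 6,nat_lit 6),(nat_lit 18,nat_lit 6),(nat_lit 19,nat_lit 6)]) (.leaf [(nat_lit 22,nat_lit 3),(nat_lit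 24,nat_lit 10),(nat_lit 31,nat_lit 10),(nat_lit 34,nat_lit 10),(nat_lit 36,nat_lit 3),(nat_lit 37,nat_lit 10),(nat_lit 42,nat_lit 10),(nat_lit 46,nat_lit 3),(nat_lit 47,nat_lit 10),(nat_lit 49,nat_lit 10),(nat_lit 62,nat_lit 10),(nat_lit 63,nat_lit 10),(nat_lit 64,nat_lit 10),(nat_lit 70,nat_lit 3),(nat_lit 72,nat_lit 10),(nat_lit 73,nat_lit 10)])) (.leaf [(nat_lit 27,nat_lit 6),(nat_lit 38,nat_lit 6),(nat_lit 52,nat_lit 6),(nat_lit 53,nat_lit 6)])) (.node (.leaf [(nat_lit 22,nat_lit 3),(nat_lit 24,nat_lit 10),(nat_lit 31,nat_lit 10),(nat_lit 34,nat_lit 10),(nat_lit 36,nat_lit 10),(nat_lit 37,nat_lit 3),(nat_lit 42,nat_lit 10),(nat_lit 46,nat_lit 10),(nat_lit 47,nat_lit 3),(nat_lit 49,nat_lit 10),(nat_lit 62,nat_lit 10),(nat_lit 63,nat_lit 3),(nat_lit 64,nat_lit 3),(nat_lit 70,nat_lit 3),(nat_lit 72,nat_lit 3),(nat_lit 73,nat_lit 3)]) (.leaf [(nat_lit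 29,nat_lit 7),(nat_lit 40,nat_lit 7),(nat_lit 50,nat_lit 7),(nat_lit 54,nat_lit 6)]))) (.node (.node (.leaf [(nat_lit 3,nat_lit 7),(nat_lit 7,nat_lit 7),(nat_lit 14,nat_lit 6),(nat_lit 16,nat_lit 7)]) (.leaf [(nat_lit 22,nat_lit 10),(nat_lit 24,nat_lit 10),(nat_lit 31,nat_lit 3),(nat_lit 34,nat_lit 3),(nat_lit 36,nat_lit 10),(nat_lit 37,nat_lit 10),(nat_lit 42,nat_lit 10),(nat_lit 46,nat_lit 3),(nat_lit 47,nat_lit 3),(nat_lit 49,nat_lit 10),(nat_lit 62,nat_lit 3),(nat_lit 63,nat_lit 10),(nat_lit 64,nat_lit 3),(nat_lit 70,nat_lit 3),(nat_lit 72,nat_lit 10),(nat_lit 73,nat_lit 3)])) (.node (.leaf [(nat_lit 30,nat_lit 6),(nat_lit 44,nat_lit 6),(nat_lit 66,nat_lit 6),(nat_lit 68,nat_lit 6)]) (.leaf [(nat_lit 22,nat_lit 10),(nat_lit 24,nat_lit 3),(nat_lit 31,nat_lit 10),(nat_lit 34,nat_lit 10),(nat_lit 36,nat_lit 3),(nat_lit 37,nat_lit 10),(nat_lit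 42,nat_lit 10),(nat_lit 46,nat_lit 3),(nat_lit 47,nat_lit 10),(nat_lit 49,nat_lit 10),(nat_lit 62,nat_lit 3),(nat_lit 63,nat_lit 3),(nat_lit 64,nat_lit 3),(nat_lit 70,nat_lit 10),(nat_lit 72,nat_lit 3),(nat_lit 73,nat_lit 3)])))))) (.node (.node (.node (.node (.node (.node (.leaf [(nat_lit 1,nat_lit 6),(nat_lit 10,nat_lit 6),(nat_lit 12,nat_lit 7),(nat_lit 13,nat_lit 6)]) (.leaf [(nat_lit 32,nat_lit 7),(nat_lit 45,nat_lit 7),(nat_lit 59,nat_lit 6),(nat_lit 65,nat_lit 6)])) (.leaf [(nat_lit 33,nat_lit 6),(nat_lit 43,nat_lit 6),(nat_lit 74,nat_lit 7),(nat_lit 77,nat_lit 6)])) (.node (.leaf [(nat_lit 5,nat_lit 7),(nat_lit 9,nat_lit 7),(nat_lit 15,nat_lit 7),(nat_lit 17,nat_lit 6)]) (.leaf [(nat_lit 22,nat_lit 10),(nat_lit 24,nat_lit 10),(nat_lit 31,nat_lit 3),(nat_lit 34,nat_lit 10),(nat_lit 36,nat_lit 3),(nat_lit 37,nat_lit 10),(nat_lit 42,nat_lit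 10),(nat_lit 46,nat_lit 10),(nat_lit 47,nat_lit 3),(nat_lit 49,nat_lit 3),(nat_lit 62,nat_lit 10),(nat_lit 63,nat_lit 10),(nat_lit 64,nat_lit 10),(nat_lit 70,nat_lit 10),(nat_lit 72,nat_lit 3),(nat_lit 73,nat_lit 3)]))) (.node (.node (.node (.leaf [(nat_lit 5,nat_lit 7),(nat_lit 9,nat_lit 6),(nat_lit 15,nat_lit 7),(nat_lit 17,nat_lit 7)]) (.leaf [(nat_lit 22,nat_lit 3),(nat_lit 24,nat_lit 10),(nat_lit 31,nat_lit 10),(nat_lit 34,nat_lit 3),(nat_lit 36,nat_lit 3),(nat_lit 37,nat_lit 3),(nat_lit 42,nat_lit 10),(nat_lit 46,nat_lit 3),(nat_lit 47,nat_lit 3),(nat_lit 49,nat_lit 3),(nat_lit 62,nat_lit 3),(nat_lit 63,nat_lit 3),(nat_lit 64,nat_lit 10),(nat_lit 70,nat_lit 10),(nat_lit 72,nat_lit 10),(nat_lit 73,nat_lit 3)])) (.leaf [(nat_lit 28,nat_lit 7),(nat_lit 41,nat_lit 6),(nat_lit 51,nat_lit 6),(nat_lit 55,nat_lit 6)])) (.node (.leaf [(nat_lit 25,nat_lit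 6),(nat_lit 60,nat_lit 7),(nat_lit 75,nat_lit 7),(nat_lit 76,nat_lit 6)]) (.leaf [(nat_lit 26,nat_lit 7),(nat_lit 39,nat_lit 7),(nat_lit 56,nat_lit 7),(nat_lit 57,nat_lit 6)])))) (.node (.node (.node (.node (.leaf [(nat_lit 5,nat_lit 6),(nat_lit 9,nat_lit 7),(nat_lit 15,nat_lit 7),(nat_lit 17,nat_lit 7)]) (.leaf [(nat_lit 23,nat_lit 6),(nat_lit 58,nat_lit 6),(nat_lit 67,nat_lit 6),(nat_lit 69,nat_lit 6)])) (.leaf [(nat_lit 22,nat_lit 3),(nat_lit 24,nat_lit 3),(nat_lit 31,nat_lit 3),(nat_lit 34,nat_lit 3),(nat_lit 36,nat_lit 3),(nat_lit 37,nat_lit 3),(nat_lit 42,nat_lit 10),(nat_lit 46,nat_lit 10),(nat_lit 47,nat_lit 10),(nat_lit 49,nat_lit 10),(nat_lit 62,nat_lit 10),(nat_lit 63,nat_lit 10),(nat_lit 64,nat_lit 3),(nat_lit 70,nat_lit 10),(nat_lit 72,nat_lit 10),(nat_lit 73,nat_lit 3)])) (.node (.leaf [(nat_lit 2,nat_lit 7),(nat_lit 8,nat_lit 7),(nat_lit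 20,nat_lit 7),(nat_lit 21,nat_lit 6)]) (.leaf [(nat_lit 27,nat_lit 7),(nat_lit 38,nat_lit 6),(nat_lit 52,nat_lit 7),(nat_lit 53,nat_lit 6)]))) (.node (.node (.node (.leaf [(nat_lit 1,nat_lit 6),(nat_lit 10,nat_lit 7),(nat_lit 12,nat_lit 6),(nat_lit 13,nat_lit 6)]) (.leaf [(nat_lit 33,nat_lit 6),(nat_lit 43,nat_lit 7),(nat_lit 74,nat_lit 6),(nat_lit 77,nat_lit 6)])) (.leaf [(nat_lit 32,nat_lit 7),(nat_lit 45,nat_lit 6),(nat_lit 59,nat_lit 6),(nat_lit 65,nat_lit 7)])) (.node (.leaf [(nat_lit 29,nat_lit 6),(nat_lit 40,nat_lit 7),(nat_lit 50,nat_lit 7),(nat_lit 54,nat_lit 7)]) (.leaf [(nat_lit 35,nat_lit 7),(nat_lit 48,nat_lit 6),(nat_lit 61,nat_lit 6),(nat_lit 71,nat_lit 6)]))))) (.node (.node (.node (.node (.node (.leaf [(nat_lit 3,nat_lit 6),(nat_lit 7,nat_lit 7),(nat_lit 14,nat_lit 7),(nat_lit 16,nat_lit 7)]) (.leaf [(nat_lit 23,nat_lit 7),(nat_lit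 58,nat_lit 7),(nat_lit 67,nat_lit 6),(nat_lit 69,nat_lit 6)])) (.leaf [(nat_lit 35,nat_lit 6),(nat_lit 48,nat_lit 6),(nat_lit 61,nat_lit 7),(nat_lit 71,nat_lit 6)])) (.node (.leaf [(nat_lit 4,nat_lit 7),(nat_lit 6,nat_lit 6),(nat_lit 18,nat_lit 7),(nat_lit 19,nat_lit 6)]) (.leaf [(nat_lit 28,nat_lit 6),(nat_lit 41,nat_lit 6),(nat_lit 51,nat_lit 6),(nat_lit 55,nat_lit 7)]))) (.node (.node (.node (.leaf [(nat_lit 0,nat_lit 2),(nat_lit 11,nat_lit 7)]) (.leaf [(nat_lit 25,nat_lit 7),(nat_lit 60,nat_lit 7),(nat_lit 75,nat_lit 6),(nat_lit 76,nat_lit 6)])) (.leaf [(nat_lit 33,nat_lit 6),(nat_lit 43,nat_lit 6),(nat_lit 74,nat_lit 6),(nat_lit 77,nat_lit 7)])) (.node (.leaf [(nat_lit 27,nat_lit 6),(nat_lit 38,nat_lit 6),(nat_lit 52,nat_lit 7),(nat_lit 53,nat_lit 7)]) (.leaf [(nat_lit 32,nat_lit 6),(nat_lit 45,nat_lit 6),(nat_lit 59,nat_lit 6),(nat_lit 65,nat_lit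 6)])))) (.node (.node (.node (.node (.leaf [(nat_lit 3,nat_lit 7),(nat_lit 7,nat_lit 6),(nat_lit 14,nat_lit 7),(nat_lit 16,nat_lit 7)]) (.leaf [(nat_lit 35,nat_lit 6),(nat_lit 48,nat_lit 7),(nat_lit 61,nat_lit 6),(nat_lit 71,nat_lit 6)])) (.leaf [(nat_lit 26,nat_lit 7),(nat_lit 39,nat_lit 6),(nat_lit 56,nat_lit 7),(nat_lit 57,nat_lit 7)])) (.node (.leaf [(nat_lit 23,nat_lit 6),(nat_lit 58,nat_lit 7),(nat_lit 67,nat_lit 7),(nat_lit 69,nat_lit 6)]) (.leaf [(nat_lit 28,nat_lit 6),(nat_lit 41,nat_lit 6),(nat_lit 51,nat_lit 7),(nat_lit 55,nat_lit 6)]))) (.node (.node (.leaf [(nat_lit 5,nat_lit 7),(nat_lit 9,nat_lit 7),(nat_lit 15,nat_lit 6),(nat_lit 17,nat_lit 7)]) (.leaf [(nat_lit 22,nat_lit 3),(nat_lit 24,nat_lit 3),(nat_lit 31,nat_lit 10),(nat_lit 34,nat_lit 10),(nat_lit 36,nat_lit 10),(nat_lit 37,nat_lit 10),(nat_lit 42,nat_lit 3),(nat_lit 46,nat_lit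 3),(nat_lit 47,nat_lit 3),(nat_lit 49,nat_lit 3),(nat_lit 62,nat_lit 10),(nat_lit 63,nat_lit 10),(nat_lit 64,nat_lit 3),(nat_lit 70,nat_lit 10),(nat_lit 72,nat_lit 10),(nat_lit 73,nat_lit 3)])) (.node (.leaf [(nat_lit 22,nat_lit 10),(nat_lit 24,nat_lit 10),(nat_lit 31,nat_lit 3),(nat_lit 34,nat_lit 10),(nat_lit 36,nat_lit 10),(nat_lit 37,nat_lit 3),(nat_lit 42,nat_lit 10),(nat_lit 46,nat_lit 3),(nat_lit 47,nat_lit 10),(nat_lit 49,nat_lit 3),(nat_lit 62,nat_lit 10),(nat_lit 63,nat_lit 3),(nat_lit 64,nat_lit 3),(nat_lit 70,nat_lit 10),(nat_lit 72,nat_lit 10),(nat_lit 73,nat_lit 10)]) (.leaf [(nat_lit 22,nat_lit 3),(nat_lit 24,nat_lit 10),(nat_lit 31,nat_lit 3),(nat_lit 34,nat_lit 10),(nat_lit 36,nat_lit 10),(nat_lit 37,nat_lit 10),(nat_lit 42,nat_lit 3),(nat_lit 46,nat_lit 10),(nat_lit 47,nat_lit 10),(nat_lit 49,nat_lit 10),(nat_lit 62,nat_lit 3),(nat_lit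 63,nat_lit 3),(nat_lit 64,nat_lit 10),(nat_lit 70,nat_lit 10),(nat_lit 72,nat_lit 10),(nat_lit 73,nat_lit 3)])))))))
def m4 : BT (List (Nat × Nat)) := (.node (.node (.node (.node (.node (.node (.node (.leaf [(nat_lit 0,nat_lit 1)]) (.leaf [(nat_lit 64,nat_lit 12)])) (.leaf [(nat_lit 32,nat_lit 12)])) (.node (.leaf [(nat_lit 16,nat_lit 12)]) (.leaf [(nat_lit 48,nat_lit 1)]))) (.node (.node (.node (.leaf [(nat_lit 8,nat_lit 1)]) (.leaf [(nat_lit 72,nat_lit 12)])) (.leaf [(nat_lit 40,nat_lit 1)])) (.node (.leaf [(nat_lit 24,nat_lit 1)]) (.leaf [(nat_lit 56,nat_lit 12)])))) (.node (.node (.node (.node (.leaf [(nat_lit 4,nat_lit 12)]) (.leaf [(nat_lit 68,nat_lit 12)])) (.leaf [(nat_lit 36,nat_lit 12)])) (.node (.leaf [(nat_lit 20,nat_lit 12)]) (.leaf [(nat_lit 52,nat_lit 12)]))) (.node (.node (.node (.leaf [(nat_lit 12,nat_lit 12)]) (.leaf [(nat_lit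 76,nat_lit 12)])) (.leaf [(nat_lit 44,nat_lit 1)])) (.node (.leaf [(nat_lit 28,nat_lit 12)]) (.leaf [(nat_lit 60,nat_lit 12)]))))) (.node (.node (.node (.node (.node (.leaf [(nat_lit 2,nat_lit 12)]) (.leaf [(nat_lit 66,nat_lit 12)])) (.leaf [(nat_lit 34,nat_lit 12)])) (.node (.leaf [(nat_lit 18,nat_lit 12)]) (.leaf [(nat_lit 50,nat_lit 12)]))) (.node (.node (.node (.leaf [(nat_lit 10,nat_lit 12)]) (.leaf [(nat_lit 74,nat_lit 12)])) (.leaf [(nat_lit 42,nat_lit 1)])) (.node (.leaf [(nat_lit 26,nat_lit 12)]) (.leaf [(nat_lit 58,nat_lit 12)])))) (.node (.node (.node (.node (.leaf [(nat_lit 6,nat_lit 1)]) (.leaf [(nat_lit 70,nat_lit 12)])) (.leaf [(nat_lit 38,nat_lit 1)])) (.node (.leaf [(nat_lit 22,nat_lit 1)]) (.leaf [(nat_lit 54,nat_lit 12)]))) (.node (.node (.leaf [(nat_lit 14,nat_lit 12)]) (.leaf [(nat_lit 46,nat_lit 1)])) (.node (.leaf [(nat_lit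 30,nat_lit 12)]) (.leaf [(nat_lit 62,nat_lit 12)])))))) (.node (.node (.node (.node (.node (.node (.leaf [(nat_lit 1,nat_lit 1)]) (.leaf [(nat_lit 65,nat_lit 12)])) (.leaf [(nat_lit 33,nat_lit 12)])) (.node (.leaf [(nat_lit 17,nat_lit 12)]) (.leaf [(nat_lit 49,nat_lit 1)]))) (.node (.node (.node (.leaf [(nat_lit 9,nat_lit 1)]) (.leaf [(nat_lit 73,nat_lit 12)])) (.leaf [(nat_lit 41,nat_lit 1)])) (.node (.leaf [(nat_lit 25,nat_lit 1)]) (.leaf [(nat_lit 57,nat_lit 12)])))) (.node (.node (.node (.node (.leaf [(nat_lit 5,nat_lit 12)]) (.leaf [(nat_lit 69,nat_lit 12)])) (.leaf [(nat_lit 37,nat_lit 12)])) (.node (.leaf [(nat_lit 21,nat_lit 12)]) (.leaf [(nat_lit 53,nat_lit 12)]))) (.node (.node (.node (.leaf [(nat_lit 13,nat_lit 12)]) (.leaf [(nat_lit 77,nat_lit 12)])) (.leaf [(nat_lit 45,nat_lit 1)])) (.node (.leaf [(nat_lit 29,nat_lit 12)]) (.leaf [(nat_lit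 61,nat_lit 12)]))))) (.node (.node (.node (.node (.node (.leaf [(nat_lit 3,nat_lit 12)]) (.leaf [(nat_lit 67,nat_lit 12)])) (.leaf [(nat_lit 35,nat_lit 12)])) (.node (.leaf [(nat_lit 19,nat_lit 12)]) (.leaf [(nat_lit 51,nat_lit 12)]))) (.node (.node (.node (.leaf [(nat_lit 11,nat_lit 12)]) (.leaf [(nat_lit 75,nat_lit 12)])) (.leaf [(nat_lit 43,nat_lit 1)])) (.node (.leaf [(nat_lit 27,nat_lit 12)]) (.leaf [(nat_lit 59,nat_lit 12)])))) (.node (.node (.node (.node (.leaf [(nat_lit 7,nat_lit 1)]) (.leaf [(nat_lit 71,nat_lit 12)])) (.leaf [(nat_lit 39,nat_lit 1)])) (.node (.leaf [(nat_lit 23,nat_lit 1)]) (.leaf [(nat_lit 55,nat_lit 12)]))) (.node (.node (.leaf [(nat_lit 15,nat_lit 12)]) (.leaf [(nat_lit 47,nat_lit 1)])) (.node (.leaf [(nat_lit 31,nat_lit 12)]) (.leaf [(nat_lit 63,nat_lit 12)])))))))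
def m5 : BT (List (Nat × Nat)) := (.node (.node (.node (.node (.node (.node (.node (.leaf [(nat_lit 0,nat_lit 6),(nat_lit 2,nat_lit 2)]) (.leaf [(nat_lit 38,nat_lit 6),(nat_lit 60,nat_lit 7),(nat_lit 63,nat_lit 6),(nat_lit 64,nat_lit 6)])) (.leaf [(nat_lit 24,nat_lit 7),(nat_lit 29,nat_lit 7),(nat_lit 32,nat_lit 6),(nat_lit 34,nat_lit 6)])) (.node (.leaf [(nat_lit 9,nat_lit 7),(nat_lit 13,nat_lit 7),(nat_lit 16,nat_lit 6),(nat_lit 18,nat_lit 6)]) (.leaf [(nat_lit 48,nat_lit 6),(nat_lit 55,nat_lit 7),(nat_lit 69,nat_lit 7),(nat_lit 74,nat_lit 7)]))) (.node (.node (.node (.leaf [(nat_lit 8,nat_lit 6),(nat_lit 11,nat_lit 7),(nat_lit 20,nat_lit 7),(nat_lit 21,nat_lit 7)]) (.leaf [(nat_lit 39,nat_lit 3),(nat_lit 40,nat_lit 10),(nat_lit 44,nat_lit 10),(nat_lit 45,nat_lit 10),(nat_lit 46,nat_lit 10),(nat_lit 47,nat_lit 10),(nat_lit 52,nat_lit 3),(nat_lit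 53,nat_lit 3),(nat_lit 54,nat_lit 10),(nat_lit 56,nat_lit 3),(nat_lit 65,nat_lit 10),(nat_lit 66,nat_lit 10),(nat_lit 72,nat_lit 3),(nat_lit 73,nat_lit 10),(nat_lit 75,nat_lit 3),(nat_lit 76,nat_lit 10)])) (.leaf [(nat_lit 39,nat_lit 10),(nat_lit 40,nat_lit 3),(nat_lit 44,nat_lit 3),(nat_lit 45,nat_lit 10),(nat_lit 46,nat_lit 10),(nat_lit 47,nat_lit 3),(nat_lit 52,nat_lit 3),(nat_lit 53,nat_lit 10),(nat_lit 54,nat_lit 3),(nat_lit 56,nat_lit 3),(nat_lit 65,nat_lit 10),(nat_lit 66,nat_lit 10),(nat_lit 72,nat_lit 10),(nat_lit 73,nat_lit 10),(nat_lit 75,nat_lit 3),(nat_lit 76,nat_lit 3)])) (.node (.leaf [(nat_lit 24,nat_lit 6),(nat_lit 29,nat_lit 7),(nat_lit 32,nat_lit 7),(nat_lit 34,nat_lit 6)]) (.leaf [(nat_lit 39,nat_lit 3),(nat_lit 40,nat_lit 3),(nat_lit 44,nat_lit 3),(nat_lit 45,nat_lit 3),(nat_lit 46,nat_lit 10),(nat_lit 47,nat_lit 3),(nat_lit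 52,nat_lit 10),(nat_lit 53,nat_lit 3),(nat_lit 54,nat_lit 10),(nat_lit 56,nat_lit 3),(nat_lit 65,nat_lit 10),(nat_lit 66,nat_lit 3),(nat_lit 72,nat_lit 3),(nat_lit 73,nat_lit 3),(nat_lit 75,nat_lit 3),(nat_lit 76,nat_lit 3)])))) (.node (.node (.node (.node (.leaf [(nat_lit 1,nat_lit 7),(nat_lit 3,nat_lit 6),(nat_lit 4,nat_lit 6),(nat_lit 5,nat_lit 6)]) (.leaf [(nat_lit 49,nat_lit 6),(nat_lit 57,nat_lit 6),(nat_lit 68,nat_lit 6),(nat_lit 70,nat_lit 7)])) (.leaf [(nat_lit 25,nat_lit 6),(nat_lit 27,nat_lit 6),(nat_lit 36,nat_lit 6),(nat_lit 37,nat_lit 7)])) (.node (.leaf [(nat_lit 8,nat_lit 7),(nat_lit 11,nat_lit 7),(nat_lit 20,nat_lit 6),(nat_lit 21,nat_lit 7)]) (.leaf [(nat_lit 39,nat_lit 3),(nat_lit 40,nat_lit 3),(nat_lit 44,nat_lit 3),(nat_lit 45,nat_lit 10),(nat_lit 46,nat_lit 3),(nat_lit 47,nat_lit 3),(nat_lit 52,nat_lit 3),(nat_lit 53,nat_lit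 3),(nat_lit 54,nat_lit 10),(nat_lit 56,nat_lit 10),(nat_lit 65,nat_lit 3),(nat_lit 66,nat_lit 10),(nat_lit 72,nat_lit 3),(nat_lit 73,nat_lit 10),(nat_lit 75,nat_lit 10),(nat_lit 76,nat_lit 3)]))) (.node (.node (.node (.leaf [(nat_lit 7,nat_lit 6),(nat_lit 12,nat_lit 6),(nat_lit 17,nat_lit 6),(nat_lit 19,nat_lit 7)]) (.leaf [(nat_lit 39,nat_lit 10),(nat_lit 40,nat_lit 3),(nat_lit 44,nat_lit 10),(nat_lit 45,nat_lit 10),(nat_lit 46,nat_lit 10),(nat_lit 47,nat_lit 10),(nat_lit 52,nat_lit 3),(nat_lit 53,nat_lit 3),(nat_lit 54,nat_lit 10),(nat_lit 56,nat_lit 3),(nat_lit 65,nat_lit 3),(nat_lit 66,nat_lit 3),(nat_lit 72,nat_lit 10),(nat_lit 73,nat_lit 3),(nat_lit 75,nat_lit 10),(nat_lit 76,nat_lit 3)])) (.leaf [(nat_lit 39,nat_lit 3),(nat_lit 40,nat_lit 3),(nat_lit 44,nat_lit 3),(nat_lit 45,nat_lit 3),(nat_lit 46,nat_lit 3),(nat_lit 47,nat_lit 10),(nat_lit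 52,nat_lit 3),(nat_lit 53,nat_lit 10),(nat_lit 54,nat_lit 10),(nat_lit 56,nat_lit 3),(nat_lit 65,nat_lit 10),(nat_lit 66,nat_lit 3),(nat_lit 72,nat_lit 10),(nat_lit 73,nat_lit 10),(nat_lit 75,nat_lit 10),(nat_lit 76,nat_lit 10)])) (.node (.leaf [(nat_lit 23,nat_lit 7),(nat_lit 28,nat_lit 6),(nat_lit 33,nat_lit 6),(nat_lit 35,nat_lit 7)]) (.leaf [(nat_lit 38,nat_lit 6),(nat_lit 60,nat_lit 6),(nat_lit 63,nat_lit 6),(nat_lit 64,nat_lit 7)]))))) (.node (.node (.node (.node (.node (.leaf [(nat_lit 0,nat_lit 2),(nat_lit 2,nat_lit 7)]) (.leaf [(nat_lit 39,nat_lit 3),(nat_lit 40,nat_lit 10),(nat_lit 44,nat_lit 3),(nat_lit 45,nat_lit 10),(nat_lit 46,nat_lit 3),(nat_lit 47,nat_lit 10),(nat_lit 52,nat_lit 10),(nat_lit 53,nat_lit 3),(nat_lit 54,nat_lit 3),(nat_lit 56,nat_lit 3),(nat_lit 65,nat_lit 3),(nat_lit 66,nat_lit 3),(nat_lit 72,nat_lit 10),(nat_lit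 73,nat_lit 10),(nat_lit 75,nat_lit 3),(nat_lit 76,nat_lit 3)])) (.leaf [(nat_lit 24,nat_lit 6),(nat_lit 29,nat_lit 6),(nat_lit 32,nat_lit 6),(nat_lit 34,nat_lit 6)])) (.node (.leaf [(nat_lit 9,nat_lit 6),(nat_lit 13,nat_lit 6),(nat_lit 16,nat_lit 6),(nat_lit 18,nat_lit 6)]) (.leaf [(nat_lit 42,nat_lit 7),(nat_lit 50,nat_lit 6),(nat_lit 59,nat_lit 6),(nat_lit 62,nat_lit 6)]))) (.node (.node (.node (.leaf [(nat_lit 6,nat_lit 7),(nat_lit 10,nat_lit 6),(nat_lit 14,nat_lit 7),(nat_lit 15,nat_lit 7)]) (.leaf [(nat_lit 48,nat_lit 7),(nat_lit 55,nat_lit 7),(nat_lit 69,nat_lit 7),(nat_lit 74,nat_lit 6)])) (.leaf [(nat_lit 42,nat_lit 6),(nat_lit 50,nat_lit 7),(nat_lit 59,nat_lit 6),(nat_lit 62,nat_lit 6)])) (.node (.leaf [(nat_lit 22,nat_lit 7),(nat_lit 26,nat_lit 6),(nat_lit 30,nat_lit 7),(nat_lit 31,nat_lit 6)]) (.leaf [(nat_lit 43,nat_lit 7),(nat_lit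 51,nat_lit 6),(nat_lit 58,nat_lit 6),(nat_lit 61,nat_lit 7)])))) (.node (.node (.node (.node (.leaf [(nat_lit 6,nat_lit 6),(nat_lit 10,nat_lit 7),(nat_lit 14,nat_lit 7),(nat_lit 15,nat_lit 7)]) (.leaf [(nat_lit 49,nat_lit 6),(nat_lit 57,nat_lit 6),(nat_lit 68,nat_lit 7),(nat_lit 70,nat_lit 6)])) (.leaf [(nat_lit 38,nat_lit 6),(nat_lit 60,nat_lit 6),(nat_lit 63,nat_lit 7),(nat_lit 64,nat_lit 6)])) (.node (.leaf [(nat_lit 22,nat_lit 6),(nat_lit 26,nat_lit 7),(nat_lit 30,nat_lit 7),(nat_lit 31,nat_lit 6)]) (.leaf [(nat_lit 39,nat_lit 3),(nat_lit 40,nat_lit 3),(nat_lit 44,nat_lit 10),(nat_lit 45,nat_lit 10),(nat_lit 46,nat_lit 10),(nat_lit 47,nat_lit 3),(nat_lit 52,nat_lit 10),(nat_lit 53,nat_lit 3),(nat_lit 54,nat_lit 3),(nat_lit 56,nat_lit 10),(nat_lit 65,nat_lit 10),(nat_lit 66,nat_lit 3),(nat_lit 72,nat_lit 10),(nat_lit 73,nat_lit 10),(nat_lit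 75,nat_lit 10),(nat_lit 76,nat_lit 10)]))) (.node (.node (.leaf [(nat_lit 6,nat_lit 7),(nat_lit 10,nat_lit 7),(nat_lit 14,nat_lit 6),(nat_lit 15,nat_lit 7)]) (.leaf [(nat_lit 39,nat_lit 10),(nat_lit 40,nat_lit 10),(nat_lit 44,nat_lit 3),(nat_lit 45,nat_lit 10),(nat_lit 46,nat_lit 3),(nat_lit 47,nat_lit 3),(nat_lit 52,nat_lit 3),(nat_lit 53,nat_lit 3),(nat_lit 54,nat_lit 10),(nat_lit 56,nat_lit 10),(nat_lit 65,nat_lit 10),(nat_lit 66,nat_lit 3),(nat_lit 72,nat_lit 10),(nat_lit 73,nat_lit 3),(nat_lit 75,nat_lit 3),(nat_lit 76,nat_lit 10)])) (.node (.leaf [(nat_lit 22,nat_lit 7),(nat_lit 26,nat_lit 7),(nat_lit 30,nat_lit 6),(nat_lit 31,nat_lit 6)]) (.leaf [(nat_lit 42,nat_lit 6),(nat_lit 50,nat_lit 6),(nat_lit 59,nat_lit 7),(nat_lit 62,nat_lit 6)])))))) (.node (.node (.node (.node (.node (.node (.leaf [(nat_lit 1,nat_lit 6),(nat_lit 3,nat_lit 6),(nat_lit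 4,nat_lit 7),(nat_lit 5,nat_lit 6)]) (.leaf [(nat_lit 39,nat_lit 3),(nat_lit 40,nat_lit 10),(nat_lit 44,nat_lit 10),(nat_lit 45,nat_lit 3),(nat_lit 46,nat_lit 10),(nat_lit 47,nat_lit 3),(nat_lit 52,nat_lit 3),(nat_lit 53,nat_lit 10),(nat_lit 54,nat_lit 10),(nat_lit 56,nat_lit 10),(nat_lit 65,nat_lit 3),(nat_lit 66,nat_lit 3),(nat_lit 72,nat_lit 10),(nat_lit 73,nat_lit 10),(nat_lit 75,nat_lit 3),(nat_lit 76,nat_lit 3)])) (.leaf [(nat_lit 23,nat_lit 6),(nat_lit 28,nat_lit 6),(nat_lit 33,nat_lit 6),(nat_lit 35,nat_lit 6)])) (.node (.leaf [(nat_lit 7,nat_lit 7),(nat_lit 12,nat_lit 6),(nat_lit 17,nat_lit 6),(nat_lit 19,nat_lit 6)]) (.leaf [(nat_lit 49,nat_lit 6),(nat_lit 57,nat_lit 7),(nat_lit 68,nat_lit 6),(nat_lit 70,nat_lit 6)]))) (.node (.node (.node (.leaf [(nat_lit 9,nat_lit 6),(nat_lit 13,nat_lit 7),(nat_lit 16,nat_lit 7),(nat_lit 18,nat_lit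 6)]) (.leaf [(nat_lit 39,nat_lit 3),(nat_lit 40,nat_lit 10),(nat_lit 44,nat_lit 10),(nat_lit 45,nat_lit 10),(nat_lit 46,nat_lit 3),(nat_lit 47,nat_lit 3),(nat_lit 52,nat_lit 10),(nat_lit 53,nat_lit 10),(nat_lit 54,nat_lit 10),(nat_lit 56,nat_lit 3),(nat_lit 65,nat_lit 10),(nat_lit 66,nat_lit 10),(nat_lit 72,nat_lit 10),(nat_lit 73,nat_lit 3),(nat_lit 75,nat_lit 10),(nat_lit 76,nat_lit 3)])) (.leaf [(nat_lit 41,nat_lit 6),(nat_lit 67,nat_lit 7),(nat_lit 71,nat_lit 6),(nat_lit 77,nat_lit 7)])) (.node (.leaf [(nat_lit 25,nat_lit 6),(nat_lit 27,nat_lit 7),(nat_lit 36,nat_lit 6),(nat_lit 37,nat_lit 6)]) (.leaf [(nat_lit 49,nat_lit 7),(nat_lit 57,nat_lit 6),(nat_lit 68,nat_lit 6),(nat_lit 70,nat_lit 6)])))) (.node (.node (.node (.node (.leaf [(nat_lit 1,nat_lit 6),(nat_lit 3,nat_lit 7),(nat_lit 4,nat_lit 6),(nat_lit 5,nat_lit 6)]) (.leaf [(nat_lit 48,nat_lit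 7),(nat_lit 55,nat_lit 7),(nat_lit 69,nat_lit 6),(nat_lit 74,nat_lit 7)])) (.leaf [(nat_lit 25,nat_lit 6),(nat_lit 27,nat_lit 6),(nat_lit 36,nat_lit 7),(nat_lit 37,nat_lit 6)])) (.node (.leaf [(nat_lit 8,nat_lit 7),(nat_lit 11,nat_lit 7),(nat_lit 20,nat_lit 7),(nat_lit 21,nat_lit 6)]) (.leaf [(nat_lit 39,nat_lit 10),(nat_lit 40,nat_lit 10),(nat_lit 44,nat_lit 10),(nat_lit 45,nat_lit 3),(nat_lit 46,nat_lit 3),(nat_lit 47,nat_lit 3),(nat_lit 52,nat_lit 3),(nat_lit 53,nat_lit 3),(nat_lit 54,nat_lit 3),(nat_lit 56,nat_lit 3),(nat_lit 65,nat_lit 10),(nat_lit 66,nat_lit 3),(nat_lit 72,nat_lit 3),(nat_lit 73,nat_lit 10),(nat_lit 75,nat_lit 10),(nat_lit 76,nat_lit 3)]))) (.node (.node (.node (.leaf [(nat_lit 9,nat_lit 7),(nat_lit 13,nat_lit 6),(nat_lit 16,nat_lit 7),(nat_lit 18,nat_lit 6)]) (.leaf [(nat_lit 41,nat_lit 7),(nat_lit 67,nat_lit 7),(nat_lit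 71,nat_lit 6),(nat_lit 77,nat_lit 6)])) (.leaf [(nat_lit 39,nat_lit 10),(nat_lit 40,nat_lit 10),(nat_lit 44,nat_lit 3),(nat_lit 45,nat_lit 3),(nat_lit 46,nat_lit 10),(nat_lit 47,nat_lit 3),(nat_lit 52,nat_lit 10),(nat_lit 53,nat_lit 3),(nat_lit 54,nat_lit 10),(nat_lit 56,nat_lit 3),(nat_lit 65,nat_lit 3),(nat_lit 66,nat_lit 10),(nat_lit 72,nat_lit 10),(nat_lit 73,nat_lit 10),(nat_lit 75,nat_lit 10),(nat_lit 76,nat_lit 10)])) (.node (.leaf [(nat_lit 24,nat_lit 7),(nat_lit 29,nat_lit 6),(nat_lit 32,nat_lit 7),(nat_lit 34,nat_lit 6)]) (.leaf [(nat_lit 43,nat_lit 7),(nat_lit 51,nat_lit 6),(nat_lit 58,nat_lit 7),(nat_lit 61,nat_lit 6)]))))) (.node (.node (.node (.node (.node (.leaf [(nat_lit 1,nat_lit 6),(nat_lit 3,nat_lit 6),(nat_lit 4,nat_lit 6),(nat_lit 5,nat_lit 7)]) (.leaf [(nat_lit 41,nat_lit 7),(nat_lit 67,nat_lit 6),(nat_lit 71,nat_lit 6),(nat_lit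 77,nat_lit 7)])) (.leaf [(nat_lit 23,nat_lit 7),(nat_lit 28,nat_lit 7),(nat_lit 33,nat_lit 6),(nat_lit 35,nat_lit 6)])) (.node (.leaf [(nat_lit 7,nat_lit 6),(nat_lit 12,nat_lit 7),(nat_lit 17,nat_lit 6),(nat_lit 19,nat_lit 6)]) (.leaf [(nat_lit 43,nat_lit 6),(nat_lit 51,nat_lit 6),(nat_lit 58,nat_lit 6),(nat_lit 61,nat_lit 6)]))) (.node (.node (.node (.leaf [(nat_lit 8,nat_lit 7),(nat_lit 11,nat_lit 6),(nat_lit 20,nat_lit 7),(nat_lit 21,nat_lit 7)]) (.leaf [(nat_lit 39,nat_lit 10),(nat_lit 40,nat_lit 3),(nat_lit 44,nat_lit 10),(nat_lit 45,nat_lit 10),(nat_lit 46,nat_lit 3),(nat_lit 47,nat_lit 3),(nat_lit 52,nat_lit 10),(nat_lit 53,nat_lit 10),(nat_lit 54,nat_lit 10),(nat_lit 56,nat_lit 3),(nat_lit 65,nat_lit 3),(nat_lit 66,nat_lit 3),(nat_lit 72,nat_lit 3),(nat_lit 73,nat_lit 10),(nat_lit 75,nat_lit 3),(nat_lit 76,nat_lit 10)])) (.leaf [(nat_lit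 43,nat_lit 6),(nat_lit 51,nat_lit 6),(nat_lit 58,nat_lit 7),(nat_lit 61,nat_lit 7)])) (.node (.leaf [(nat_lit 25,nat_lit 7),(nat_lit 27,nat_lit 6),(nat_lit 36,nat_lit 6),(nat_lit 37,nat_lit 6)]) (.leaf [(nat_lit 42,nat_lit 6),(nat_lit 50,nat_lit 6),(nat_lit 59,nat_lit 6),(nat_lit 62,nat_lit 7)])))) (.node (.node (.node (.node (.leaf [(nat_lit 7,nat_lit 6),(nat_lit 12,nat_lit 6),(nat_lit 17,nat_lit 7),(nat_lit 19,nat_lit 6)]) (.leaf [(nat_lit 41,nat_lit 6),(nat_lit 67,nat_lit 6),(nat_lit 71,nat_lit 6),(nat_lit 77,nat_lit 6)])) (.leaf [(nat_lit 39,nat_lit 3),(nat_lit 40,nat_lit 10),(nat_lit 44,nat_lit 3),(nat_lit 45,nat_lit 10),(nat_lit 46,nat_lit 10),(nat_lit 47,nat_lit 3),(nat_lit 52,nat_lit 3),(nat_lit 53,nat_lit 10),(nat_lit 54,nat_lit 3),(nat_lit 56,nat_lit 3),(nat_lit 65,nat_lit 3),(nat_lit 66,nat_lit 3),(nat_lit 72,nat_lit 3),(nat_lit 73,nat_lit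 3),(nat_lit 75,nat_lit 10),(nat_lit 76,nat_lit 10)])) (.node (.leaf [(nat_lit 23,nat_lit 6),(nat_lit 28,nat_lit 7),(nat_lit 33,nat_lit 6),(nat_lit 35,nat_lit 7)]) (.leaf [(nat_lit 48,nat_lit 7),(nat_lit 55,nat_lit 6),(nat_lit 69,nat_lit 7),(nat_lit 74,nat_lit 7)]))) (.node (.node (.leaf [(nat_lit 6,nat_lit 7),(nat_lit 10,nat_lit 7),(nat_lit 14,nat_lit 7),(nat_lit 15,nat_lit 6)]) (.leaf [(nat_lit 39,nat_lit 3),(nat_lit 40,nat_lit 3),(nat_lit 44,nat_lit 10),(nat_lit 45,nat_lit 3),(nat_lit 46,nat_lit 3),(nat_lit 47,nat_lit 3),(nat_lit 52,nat_lit 3),(nat_lit 53,nat_lit 3),(nat_lit 54,nat_lit 3),(nat_lit 56,nat_lit 3),(nat_lit 65,nat_lit 3),(nat_lit 66,nat_lit 10),(nat_lit 72,nat_lit 10),(nat_lit 73,nat_lit 3),(nat_lit 75,nat_lit 3),(nat_lit 76,nat_lit 10)])) (.node (.leaf [(nat_lit 22,nat_lit 6),(nat_lit 26,nat_lit 6),(nat_lit 30,nat_lit 6),(nat_lit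 31,nat_lit 6)]) (.leaf [(nat_lit 38,nat_lit 7),(nat_lit 60,nat_lit 6),(nat_lit 63,nat_lit 6),(nat_lit 64,nat_lit 6)])))))))
def m6 : BT (List (Nat × Nat)) := (.node (.node (.node (.node (.node (.node (.node (.leaf [(nat_lit 0,nat_lit 1)]) (.leaf [(nat_lit 64,nat_lit 12)])) (.leaf [(nat_lit 32,nat_lit 12)])) (.node (.leaf [(nat_lit 16,nat_lit 12)]) (.leaf [(nat_lit 48,nat_lit 12)]))) (.node (.node (.node (.leaf [(nat_lit 8,nat_lit 12)]) (.leaf [(nat_lit 72,nat_lit 12)])) (.leaf [(nat_lit 40,nat_lit 1)])) (.node (.leaf [(nat_lit 24,nat_lit 12)]) (.leaf [(nat_lit 56,nat_lit 1)])))) (.node (.node (.node (.node (.leaf [(nat_lit 4,nat_lit 12)]) (.leaf [(nat_lit 68,nat_lit 12)])) (.leaf [(nat_lit 36,nat_lit 12)])) (.node (.leaf [(nat_lit 20,nat_lit 12)]) (.leaf [(nat_lit 52,nat_lit 1)]))) (.node (.node (.node (.leaf [(nat_lit 12,nat_lit 1)]) (.leaf [(nat_lit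 76,nat_lit 12)])) (.leaf [(nat_lit 44,nat_lit 12)])) (.node (.leaf [(nat_lit 28,nat_lit 1)]) (.leaf [(nat_lit 60,nat_lit 12)]))))) (.node (.node (.node (.node (.node (.leaf [(nat_lit 2,nat_lit 12)]) (.leaf [(nat_lit 66,nat_lit 12)])) (.leaf [(nat_lit 34,nat_lit 12)])) (.node (.leaf [(nat_lit 18,nat_lit 12)]) (.leaf [(nat_lit 50,nat_lit 1)]))) (.node (.node (.node (.leaf [(nat_lit 10,nat_lit 1)]) (.leaf [(nat_lit 74,nat_lit 12)])) (.leaf [(nat_lit 42,nat_lit 12)])) (.node (.leaf [(nat_lit 26,nat_lit 1)]) (.leaf [(nat_lit 58,nat_lit 12)])))) (.node (.node (.node (.node (.leaf [(nat_lit 6,nat_lit 12)]) (.leaf [(nat_lit 70,nat_lit 12)])) (.leaf [(nat_lit 38,nat_lit 1)])) (.node (.leaf [(nat_lit 22,nat_lit 12)]) (.leaf [(nat_lit 54,nat_lit 1)]))) (.node (.node (.leaf [(nat_lit 14,nat_lit 12)]) (.leaf [(nat_lit 46,nat_lit 12)])) (.node (.leaf [(nat_lit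 30,nat_lit 12)]) (.leaf [(nat_lit 62,nat_lit 12)])))))) (.node (.node (.node (.node (.node (.node (.leaf [(nat_lit 1,nat_lit 1)]) (.leaf [(nat_lit 65,nat_lit 12)])) (.leaf [(nat_lit 33,nat_lit 12)])) (.node (.leaf [(nat_lit 17,nat_lit 12)]) (.leaf [(nat_lit 49,nat_lit 12)]))) (.node (.node (.node (.leaf [(nat_lit 9,nat_lit 12)]) (.leaf [(nat_lit 73,nat_lit 12)])) (.leaf [(nat_lit 41,nat_lit 1)])) (.node (.leaf [(nat_lit 25,nat_lit 12)]) (.leaf [(nat_lit 57,nat_lit 1)])))) (.node (.node (.node (.node (.leaf [(nat_lit 5,nat_lit 12)]) (.leaf [(nat_lit 69,nat_lit 12)])) (.leaf [(nat_lit 37,nat_lit 12)])) (.node (.leaf [(nat_lit 21,nat_lit 12)]) (.leaf [(nat_lit 53,nat_lit 1)]))) (.node (.node (.node (.leaf [(nat_lit 13,nat_lit 1)]) (.leaf [(nat_lit 77,nat_lit 12)])) (.leaf [(nat_lit 45,nat_lit 12)])) (.node (.leaf [(nat_lit 29,nat_lit 1)]) (.leaf [(nat_lit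 61,nat_lit 12)]))))) (.node (.node (.node (.node (.node (.leaf [(nat_lit 3,nat_lit 12)]) (.leaf [(nat_lit 67,nat_lit 12)])) (.leaf [(nat_lit 35,nat_lit 12)])) (.node (.leaf [(nat_lit 19,nat_lit 12)]) (.leaf [(nat_lit 51,nat_lit 1)]))) (.node (.node (.node (.leaf [(nat_lit 11,nat_lit 1)]) (.leaf [(nat_lit 75,nat_lit 12)])) (.leaf [(nat_lit 43,nat_lit 12)])) (.node (.leaf [(nat_lit 27,nat_lit 1)]) (.leaf [(nat_lit 59,nat_lit 12)])))) (.node (.node (.node (.node (.leaf [(nat_lit 7,nat_lit 12)]) (.leaf [(nat_lit 71,nat_lit 12)])) (.leaf [(nat_lit 39,nat_lit 1)])) (.node (.leaf [(nat_lit 23,nat_lit 12)]) (.leaf [(nat_lit 55,nat_lit 1)]))) (.node (.node (.leaf [(nat_lit 15,nat_lit 12)]) (.leaf [(nat_lit 47,nat_lit 12)])) (.node (.leaf [(nat_lit 31,nat_lit 12)]) (.leaf [(nat_lit 63,nat_lit 12)])))))))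
def m7 : BT (List (Nat × Nat)) := (.node (.node (.node (.node (.node (.node (.node (.leaf [(nat_lit 0,nat_lit 1)]) (.leaf [(nat_lit 64,nat_lit 1)])) (.leaf [(nat_lit 32,nat_lit 12)])) (.node (.leaf [(nat_lit 16,nat_lit 12)]) (.leaf [(nat_lit 48,nat_lit 12)]))) (.node (.node (.node (.leaf [(nat_lit 8,nat_lit 12)]) (.leaf [(nat_lit 72,nat_lit 12)])) (.leaf [(nat_lit 40,nat_lit 12)])) (.node (.leaf [(nat_lit 24,nat_lit 12)]) (.leaf [(nat_lit 56,nat_lit 12)])))) (.node (.node (.node (.node (.leaf [(nat_lit 4,nat_lit 12)]) (.leaf [(nat_lit 68,nat_lit 12)])) (.leaf [(nat_lit 36,nat_lit 12)])) (.node (.leaf [(nat_lit 20,nat_lit 12)]) (.leaf [(nat_lit 52,nat_lit 12)]))) (.node (.node (.node (.leaf [(nat_lit 12,nat_lit 12)]) (.leaf [(nat_lit 76,nat_lit 12)])) (.leaf [(nat_lit 44,nat_lit 12)])) (.node (.leaf [(nat_lit 28,nat_lit 12)]) (.leaf [(nat_lit 60,nat_lit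 1)]))))) (.node (.node (.node (.node (.node (.leaf [(nat_lit 2,nat_lit 1)]) (.leaf [(nat_lit 66,nat_lit 12)])) (.leaf [(nat_lit 34,nat_lit 12)])) (.node (.leaf [(nat_lit 18,nat_lit 12)]) (.leaf [(nat_lit 50,nat_lit 1)]))) (.node (.node (.node (.leaf [(nat_lit 10,nat_lit 1)]) (.leaf [(nat_lit 74,nat_lit 12)])) (.leaf [(nat_lit 42,nat_lit 1)])) (.node (.leaf [(nat_lit 26,nat_lit 1)]) (.leaf [(nat_lit 58,nat_lit 1)])))) (.node (.node (.node (.node (.leaf [(nat_lit 6,nat_lit 1)]) (.leaf [(nat_lit 70,nat_lit 12)])) (.leaf [(nat_lit 38,nat_lit 1)])) (.node (.leaf [(nat_lit 22,nat_lit 1)]) (.leaf [(nat_lit 54,nat_lit 12)]))) (.node (.node (.leaf [(nat_lit 14,nat_lit 1)]) (.leaf [(nat_lit 46,nat_lit 12)])) (.node (.leaf [(nat_lit 30,nat_lit 1)]) (.leaf [(nat_lit 62,nat_lit 1)])))))) (.node (.node (.node (.node (.node (.node (.leaf [(nat_lit 1,nat_lit 12)])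 (.leaf [(nat_lit 65,nat_lit 12)])) (.leaf [(nat_lit 33,nat_lit 12)])) (.node (.leaf [(nat_lit 17,nat_lit 12)]) (.leaf [(nat_lit 49,nat_lit 12)]))) (.node (.node (.node (.leaf [(nat_lit 9,nat_lit 12)]) (.leaf [(nat_lit 73,nat_lit 12)])) (.leaf [(nat_lit 41,nat_lit 12)])) (.node (.leaf [(nat_lit 25,nat_lit 12)]) (.leaf [(nat_lit 57,nat_lit 12)])))) (.node (.node (.node (.node (.leaf [(nat_lit 5,nat_lit 12)]) (.leaf [(nat_lit 69,nat_lit 12)])) (.leaf [(nat_lit 37,nat_lit 12)])) (.node (.leaf [(nat_lit 21,nat_lit 12)]) (.leaf [(nat_lit 53,nat_lit 12)]))) (.node (.node (.node (.leaf [(nat_lit 13,nat_lit 12)]) (.leaf [(nat_lit 77,nat_lit 12)])) (.leaf [(nat_lit 45,nat_lit 12)])) (.node (.leaf [(nat_lit 29,nat_lit 12)]) (.leaf [(nat_lit 61,nat_lit 1)]))))) (.node (.node (.node (.node (.node (.leaf [(nat_lit 3,nat_lit 12)]) (.leaf [(nat_lit 67,nat_lit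 12)])) (.leaf [(nat_lit 35,nat_lit 12)])) (.node (.leaf [(nat_lit 19,nat_lit 12)]) (.leaf [(nat_lit 51,nat_lit 1)]))) (.node (.node (.node (.leaf [(nat_lit 11,nat_lit 12)]) (.leaf [(nat_lit 75,nat_lit 12)])) (.leaf [(nat_lit 43,nat_lit 1)])) (.node (.leaf [(nat_lit 27,nat_lit 12)]) (.leaf [(nat_lit 59,nat_lit 1)])))) (.node (.node (.node (.node (.leaf [(nat_lit 7,nat_lit 12)]) (.leaf [(nat_lit 71,nat_lit 12)])) (.leaf [(nat_lit 39,nat_lit 12)])) (.node (.leaf [(nat_lit 23,nat_lit 12)]) (.leaf [(nat_lit 55,nat_lit 12)]))) (.node (.node (.leaf [(nat_lit 15,nat_lit 1)]) (.leaf [(nat_lit 47,nat_lit 12)])) (.node (.leaf [(nat_lit 31,nat_lit 1)]) (.leaf [(nat_lit 63,nat_lit 1)])))))))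
def m8 : BT (List (Nat × Nat)) := (.node (.node (.node (.node (.node (.node (.node (.leaf [(nat_lit 0,nat_lit 6),(nat_lit 1,nat_lit 11)]) (.leaf [(nat_lit 64,nat_lit 6),(nat_lit 67,nat_lit 6),(nat_lit 72,nat_lit 7),(nat_lit 76,nat_lit 6)])) (.leaf [(nat_lit 31,nat_lit 7),(nat_lit 32,nat_lit 6),(nat_lit 35,nat_lit 6),(nat_lit 36,nat_lit 6)])) (.node (.leaf [(nat_lit 15,nat_lit 7),(nat_lit 16,nat_lit 6),(nat_lit 19,nat_lit 6),(nat_lit 20,nat_lit 7)]) (.leaf [(nat_lit 42,nat_lit 7),(nat_lit 45,nat_lit 7),(nat_lit 46,nat_lit 6),(nat_lit 48,nat_lit 6)]))) (.node (.node (.node (.leaf [(nat_lit 6,nat_lit 7),(nat_lit 7,nat_lit 7),(nat_lit 8,nat_lit 6),(nat_lit 9,nat_lit 7)]) (.leaf [(nat_lit 64,nat_lit 7),(nat_lit 67,nat_lit 6),(nat_lit 72,nat_lit 6),(nat_lit 76,nat_lit 6)])) (.leaf [(nat_lit 38,nat_lit 6),(nat_lit 39,nat_lit 6),(nat_lit 40,nat_lit 6),(nat_lit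 41,nat_lit 6)])) (.node (.leaf [(nat_lit 22,nat_lit 6),(nat_lit 23,nat_lit 6),(nat_lit 24,nat_lit 6),(nat_lit 25,nat_lit 7)]) (.leaf [(nat_lit 50,nat_lit 6),(nat_lit 52,nat_lit 6),(nat_lit 55,nat_lit 6),(nat_lit 56,nat_lit 6)])))) (.node (.node (.node (.node (.leaf [(nat_lit 2,nat_lit 6),(nat_lit 3,nat_lit 6),(nat_lit 4,nat_lit 6),(nat_lit 5,nat_lit 6)]) (.leaf [(nat_lit 58,nat_lit 3),(nat_lit 59,nat_lit 10),(nat_lit 60,nat_lit 3),(nat_lit 61,nat_lit 3),(nat_lit 62,nat_lit 3),(nat_lit 63,nat_lit 3),(nat_lit 65,nat_lit 10),(nat_lit 66,nat_lit 3),(nat_lit 68,nat_lit 3),(nat_lit 69,nat_lit 3),(nat_lit 70,nat_lit 3),(nat_lit 71,nat_lit 3),(nat_lit 73,nat_lit 10),(nat_lit 74,nat_lit 10),(nat_lit 75,nat_lit 10),(nat_lit 77,nat_lit 3)])) (.leaf [(nat_lit 31,nat_lit 6),(nat_lit 32,nat_lit 6),(nat_lit 35,nat_lit 7),(nat_lit 36,nat_lit 6)])) (.node (.leaf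 [(nat_lit 15,nat_lit 7),(nat_lit 16,nat_lit 7),(nat_lit 19,nat_lit 6),(nat_lit 20,nat_lit 6)]) (.leaf [(nat_lit 50,nat_lit 7),(nat_lit 52,nat_lit 6),(nat_lit 55,nat_lit 7),(nat_lit 56,nat_lit 6)]))) (.node (.node (.node (.leaf [(nat_lit 10,nat_lit 6),(nat_lit 11,nat_lit 6),(nat_lit 12,nat_lit 6),(nat_lit 13,nat_lit 6)]) (.leaf [(nat_lit 64,nat_lit 6),(nat_lit 67,nat_lit 7),(nat_lit 72,nat_lit 6),(nat_lit 76,nat_lit 6)])) (.leaf [(nat_lit 43,nat_lit 6),(nat_lit 44,nat_lit 6),(nat_lit 47,nat_lit 6),(nat_lit 49,nat_lit 6)])) (.node (.leaf [(nat_lit 26,nat_lit 7),(nat_lit 27,nat_lit 6),(nat_lit 28,nat_lit 6),(nat_lit 29,nat_lit 6)]) (.leaf [(nat_lit 58,nat_lit 3),(nat_lit 59,nat_lit 10),(nat_lit 60,nat_lit 3),(nat_lit 61,nat_lit 10),(nat_lit 62,nat_lit 3),(nat_lit 63,nat_lit 10),(nat_lit 65,nat_lit 10),(nat_lit 66,nat_lit 10),(nat_lit 68,nat_lit 3),(nat_lit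 69,nat_lit 10),(nat_lit 70,nat_lit 10),(nat_lit 71,nat_lit 10),(nat_lit 73,nat_lit 10),(nat_lit 74,nat_lit 3),(nat_lit 75,nat_lit 3),(nat_lit 77,nat_lit 3)]))))) (.node (.node (.node (.node (.node (.leaf [(nat_lit 2,nat_lit 6),(nat_lit 3,nat_lit 7),(nat_lit 4,nat_lit 6),(nat_lit 5,nat_lit 7)]) (.leaf [(nat_lit 58,nat_lit 10),(nat_lit 59,nat_lit 3),(nat_lit 60,nat_lit 10),(nat_lit 61,nat_lit 10),(nat_lit 62,nat_lit 3),(nat_lit 63,nat_lit 3),(nat_lit 65,nat_lit 3),(nat_lit 66,nat_lit 3),(nat_lit 68,nat_lit 3),(nat_lit 69,nat_lit 10),(nat_lit 70,nat_lit 3),(nat_lit 71,nat_lit 10),(nat_lit 73,nat_lit 10),(nat_lit 74,nat_lit 10),(nat_lit 75,nat_lit 3),(nat_lit 77,nat_lit 3)])) (.leaf [(nat_lit 30,nat_lit 7),(nat_lit 33,nat_lit 6),(nat_lit 34,nat_lit 6),(nat_lit 37,nat_lit 7)])) (.node (.leaf [(nat_lit 14,nat_lit 6),(nat_lit 17,nat_lit 6),(nat_lit 18,nat_lit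 6),(nat_lit 21,nat_lit 6)]) (.leaf [(nat_lit 50,nat_lit 6),(nat_lit 52,nat_lit 7),(nat_lit 55,nat_lit 7),(nat_lit 56,nat_lit 6)]))) (.node (.node (.node (.leaf [(nat_lit 10,nat_lit 6),(nat_lit 11,nat_lit 7),(nat_lit 12,nat_lit 6),(nat_lit 13,nat_lit 7)]) (.leaf [(nat_lit 58,nat_lit 3),(nat_lit 59,nat_lit 3),(nat_lit 60,nat_lit 3),(nat_lit 61,nat_lit 10),(nat_lit 62,nat_lit 3),(nat_lit 63,nat_lit 3),(nat_lit 65,nat_lit 3),(nat_lit 66,nat_lit 10),(nat_lit 68,nat_lit 10),(nat_lit 69,nat_lit 3),(nat_lit 70,nat_lit 3),(nat_lit 71,nat_lit 10),(nat_lit 73,nat_lit 10),(nat_lit 74,nat_lit 3),(nat_lit 75,nat_lit 10),(nat_lit 77,nat_lit 10)])) (.leaf [(nat_lit 42,nat_lit 6),(nat_lit 45,nat_lit 7),(nat_lit 46,nat_lit 6),(nat_lit 48,nat_lit 7)])) (.node (.leaf [(nat_lit 26,nat_lit 6),(nat_lit 27,nat_lit 6),(nat_lit 28,nat_lit 7),(nat_lit 29,nat_lit 6)]) (.leaf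 [(nat_lit 58,nat_lit 3),(nat_lit 59,nat_lit 3),(nat_lit 60,nat_lit 3),(nat_lit 61,nat_lit 3),(nat_lit 62,nat_lit 10),(nat_lit 63,nat_lit 3),(nat_lit 65,nat_lit 3),(nat_lit 66,nat_lit 10),(nat_lit 68,nat_lit 3),(nat_lit 69,nat_lit 10),(nat_lit 70,nat_lit 3),(nat_lit 71,nat_lit 3),(nat_lit 73,nat_lit 3),(nat_lit 74,nat_lit 3),(nat_lit 75,nat_lit 3),(nat_lit 77,nat_lit 3)])))) (.node (.node (.node (.node (.leaf [(nat_lit 6,nat_lit 6),(nat_lit 7,nat_lit 7),(nat_lit 8,nat_lit 7),(nat_lit 9,nat_lit 7)]) (.leaf [(nat_lit 58,nat_lit 3),(nat_lit 59,nat_lit 3),(nat_lit 60,nat_lit 10),(nat_lit 61,nat_lit 3),(nat_lit 62,nat_lit 10),(nat_lit 63,nat_lit 10),(nat_lit 65,nat_lit 10),(nat_lit 66,nat_lit 3),(nat_lit 68,nat_lit 3),(nat_lit 69,nat_lit 10),(nat_lit 70,nat_lit 3),(nat_lit 71,nat_lit 10),(nat_lit 73,nat_lit 10),(nat_lit 74,nat_lit 3),(nat_lit 75,nat_lit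 10),(nat_lit 77,nat_lit 10)])) (.leaf [(nat_lit 38,nat_lit 6),(nat_lit 39,nat_lit 7),(nat_lit 40,nat_lit 6),(nat_lit 41,nat_lit 7)])) (.node (.leaf [(nat_lit 22,nat_lit 6),(nat_lit 23,nat_lit 7),(nat_lit 24,nat_lit 6),(nat_lit 25,nat_lit 6)]) (.leaf [(nat_lit 51,nat_lit 7),(nat_lit 53,nat_lit 7),(nat_lit 54,nat_lit 6),(nat_lit 57,nat_lit 6)]))) (.node (.node (.leaf [(nat_lit 14,nat_lit 6),(nat_lit 17,nat_lit 7),(nat_lit 18,nat_lit 6),(nat_lit 21,nat_lit 7)]) (.leaf [(nat_lit 42,nat_lit 6),(nat_lit 45,nat_lit 6),(nat_lit 46,nat_lit 6),(nat_lit 48,nat_lit 6)])) (.node (.leaf [(nat_lit 30,nat_lit 6),(nat_lit 33,nat_lit 6),(nat_lit 34,nat_lit 7),(nat_lit 37,nat_lit 7)]) (.leaf [(nat_lit 58,nat_lit 10),(nat_lit 59,nat_lit 3),(nat_lit 60,nat_lit 3),(nat_lit 61,nat_lit 3),(nat_lit 62,nat_lit 3),(nat_lit 63,nat_lit 3),(nat_lit 65,nat_lit 10),(nat_lit 66,nat_lit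 3),(nat_lit 68,nat_lit 3),(nat_lit 69,nat_lit 3),(nat_lit 70,nat_lit 10),(nat_lit 71,nat_lit 10),(nat_lit 73,nat_lit 3),(nat_lit 74,nat_lit 3),(nat_lit 75,nat_lit 3),(nat_lit 77,nat_lit 10)])))))) (.node (.node (.node (.node (.node (.node (.leaf [(nat_lit 0,nat_lit 11),(nat_lit 1,nat_lit 7)]) (.leaf [(nat_lit 58,nat_lit 3),(nat_lit 59,nat_lit 10),(nat_lit 60,nat_lit 10),(nat_lit 61,nat_lit 3),(nat_lit 62,nat_lit 10),(nat_lit 63,nat_lit 3),(nat_lit 65,nat_lit 3),(nat_lit 66,nat_lit 3),(nat_lit 68,nat_lit 10),(nat_lit 69,nat_lit 3),(nat_lit 70,nat_lit 10),(nat_lit 71,nat_lit 10),(nat_lit 73,nat_lit 10),(nat_lit 74,nat_lit 3),(nat_lit 75,nat_lit 3),(nat_lit 77,nat_lit 3)])) (.leaf [(nat_lit 30,nat_lit 6),(nat_lit 33,nat_lit 6),(nat_lit 34,nat_lit 6),(nat_lit 37,nat_lit 6)])) (.node (.leaf [(nat_lit 14,nat_lit 7),(nat_lit 17,nat_lit 6),(nat_lit 18,nat_lit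 6),(nat_lit 21,nat_lit 7)]) (.leaf [(nat_lit 43,nat_lit 7),(nat_lit 44,nat_lit 6),(nat_lit 47,nat_lit 7),(nat_lit 49,nat_lit 6)]))) (.node (.node (.node (.leaf [(nat_lit 6,nat_lit 7),(nat_lit 7,nat_lit 7),(nat_lit 8,nat_lit 7),(nat_lit 9,nat_lit 6)]) (.leaf [(nat_lit 58,nat_lit 3),(nat_lit 59,nat_lit 3),(nat_lit 60,nat_lit 10),(nat_lit 61,nat_lit 3),(nat_lit 62,nat_lit 3),(nat_lit 63,nat_lit 3),(nat_lit 65,nat_lit 10),(nat_lit 66,nat_lit 10),(nat_lit 68,nat_lit 10),(nat_lit 69,nat_lit 10),(nat_lit 70,nat_lit 10),(nat_lit 71,nat_lit 10),(nat_lit 73,nat_lit 3),(nat_lit 74,nat_lit 10),(nat_lit 75,nat_lit 10),(nat_lit 77,nat_lit 3)])) (.leaf [(nat_lit 38,nat_lit 7),(nat_lit 39,nat_lit 7),(nat_lit 40,nat_lit 6),(nat_lit 41,nat_lit 6)])) (.node (.leaf [(nat_lit 22,nat_lit 6),(nat_lit 23,nat_lit 6),(nat_lit 24,nat_lit 7),(nat_lit 25,nat_lit 6)]) (.leaf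 [(nat_lit 51,nat_lit 6),(nat_lit 53,nat_lit 6),(nat_lit 54,nat_lit 6),(nat_lit 57,nat_lit 6)])))) (.node (.node (.node (.node (.leaf [(nat_lit 2,nat_lit 7),(nat_lit 3,nat_lit 7),(nat_lit 4,nat_lit 6),(nat_lit 5,nat_lit 6)]) (.leaf [(nat_lit 58,nat_lit 10),(nat_lit 59,nat_lit 3),(nat_lit 60,nat_lit 10),(nat_lit 61,nat_lit 3),(nat_lit 62,nat_lit 3),(nat_lit 63,nat_lit 10),(nat_lit 65,nat_lit 3),(nat_lit 66,nat_lit 10),(nat_lit 68,nat_lit 3),(nat_lit 69,nat_lit 3),(nat_lit 70,nat_lit 10),(nat_lit 71,nat_lit 3),(nat_lit 73,nat_lit 10),(nat_lit 74,nat_lit 3),(nat_lit 75,nat_lit 10),(nat_lit 77,nat_lit 3)])) (.leaf [(nat_lit 30,nat_lit 7),(nat_lit 33,nat_lit 6),(nat_lit 34,nat_lit 7),(nat_lit 37,nat_lit 6)])) (.node (.leaf [(nat_lit 14,nat_lit 7),(nat_lit 17,nat_lit 7),(nat_lit 18,nat_lit 6),(nat_lit 21,nat_lit 6)]) (.leaf [(nat_lit 51,nat_lit 7),(nat_lit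 53,nat_lit 6),(nat_lit 54,nat_lit 7),(nat_lit 57,nat_lit 6)]))) (.node (.node (.node (.leaf [(nat_lit 10,nat_lit 7),(nat_lit 11,nat_lit 7),(nat_lit 12,nat_lit 6),(nat_lit 13,nat_lit 6)]) (.leaf [(nat_lit 58,nat_lit 3),(nat_lit 59,nat_lit 3),(nat_lit 60,nat_lit 3),(nat_lit 61,nat_lit 10),(nat_lit 62,nat_lit 10),(nat_lit 63,nat_lit 10),(nat_lit 65,nat_lit 3),(nat_lit 66,nat_lit 3),(nat_lit 68,nat_lit 3),(nat_lit 69,nat_lit 3),(nat_lit 70,nat_lit 10),(nat_lit 71,nat_lit 10),(nat_lit 73,nat_lit 3),(nat_lit 74,nat_lit 10),(nat_lit 75,nat_lit 10),(nat_lit 77,nat_lit 3)])) (.leaf [(nat_lit 42,nat_lit 7),(nat_lit 45,nat_lit 6),(nat_lit 46,nat_lit 6),(nat_lit 48,nat_lit 7)])) (.node (.leaf [(nat_lit 26,nat_lit 6),(nat_lit 27,nat_lit 7),(nat_lit 28,nat_lit 6),(nat_lit 29,nat_lit 6)]) (.leaf [(nat_lit 58,nat_lit 3),(nat_lit 59,nat_lit 10),(nat_lit 60,nat_lit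 10),(nat_lit 61,nat_lit 3),(nat_lit 62,nat_lit 3),(nat_lit 63,nat_lit 10),(nat_lit 65,nat_lit 3),(nat_lit 66,nat_lit 10),(nat_lit 68,nat_lit 3),(nat_lit 69,nat_lit 3),(nat_lit 70,nat_lit 3),(nat_lit 71,nat_lit 10),(nat_lit 73,nat_lit 3),(nat_lit 74,nat_lit 10),(nat_lit 75,nat_lit 3),(nat_lit 77,nat_lit 10)]))))) (.node (.node (.node (.node (.node (.leaf [(nat_lit 2,nat_lit 7),(nat_lit 3,nat_lit 6),(nat_lit 4,nat_lit 6),(nat_lit 5,nat_lit 7)]) (.leaf [(nat_lit 64,nat_lit 6),(nat_lit 67,nat_lit 6),(nat_lit 72,nat_lit 6),(nat_lit 76,nat_lit 7)])) (.leaf [(nat_lit 31,nat_lit 6),(nat_lit 32,nat_lit 6),(nat_lit 35,nat_lit 6),(nat_lit 36,nat_lit 7)])) (.node (.leaf [(nat_lit 15,nat_lit 6),(nat_lit 16,nat_lit 6),(nat_lit 19,nat_lit 6),(nat_lit 20,nat_lit 6)]) (.leaf [(nat_lit 51,nat_lit 6),(nat_lit 53,nat_lit 7),(nat_lit 54,nat_lit 7),(nat_lit 57,nat_lit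 6)]))) (.node (.node (.node (.leaf [(nat_lit 10,nat_lit 7),(nat_lit 11,nat_lit 6),(nat_lit 12,nat_lit 6),(nat_lit 13,nat_lit 7)]) (.leaf [(nat_lit 58,nat_lit 3),(nat_lit 59,nat_lit 3),(nat_lit 60,nat_lit 3),(nat_lit 61,nat_lit 3),(nat_lit 62,nat_lit 3),(nat_lit 63,nat_lit 10),(nat_lit 65,nat_lit 3),(nat_lit 66,nat_lit 3),(nat_lit 68,nat_lit 10),(nat_lit 69,nat_lit 10),(nat_lit 70,nat_lit 10),(nat_lit 71,nat_lit 3),(nat_lit 73,nat_lit 10),(nat_lit 74,nat_lit 10),(nat_lit 75,nat_lit 3),(nat_lit 77,nat_lit 10)])) (.leaf [(nat_lit 43,nat_lit 6),(nat_lit 44,nat_lit 6),(nat_lit 47,nat_lit 7),(nat_lit 49,nat_lit 7)])) (.node (.leaf [(nat_lit 26,nat_lit 6),(nat_lit 27,nat_lit 6),(nat_lit 28,nat_lit 6),(nat_lit 29,nat_lit 7)]) (.leaf [(nat_lit 58,nat_lit 3),(nat_lit 59,nat_lit 3),(nat_lit 60,nat_lit 10),(nat_lit 61,nat_lit 10),(nat_lit 62,nat_lit 3),(nat_lit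 63,nat_lit 10),(nat_lit 65,nat_lit 10),(nat_lit 66,nat_lit 3),(nat_lit 68,nat_lit 10),(nat_lit 69,nat_lit 3),(nat_lit 70,nat_lit 3),(nat_lit 71,nat_lit 3),(nat_lit 73,nat_lit 3),(nat_lit 74,nat_lit 3),(nat_lit 75,nat_lit 3),(nat_lit 77,nat_lit 3)])))) (.node (.node (.node (.node (.leaf [(nat_lit 6,nat_lit 7),(nat_lit 7,nat_lit 6),(nat_lit 8,nat_lit 7),(nat_lit 9,nat_lit 7)]) (.leaf [(nat_lit 58,nat_lit 3),(nat_lit 59,nat_lit 3),(nat_lit 60,nat_lit 10),(nat_lit 61,nat_lit 10),(nat_lit 62,nat_lit 10),(nat_lit 63,nat_lit 3),(nat_lit 65,nat_lit 10),(nat_lit 66,nat_lit 10),(nat_lit 68,nat_lit 3),(nat_lit 69,nat_lit 3),(nat_lit 70,nat_lit 10),(nat_lit 71,nat_lit 3),(nat_lit 73,nat_lit 10),(nat_lit 74,nat_lit 10),(nat_lit 75,nat_lit 3),(nat_lit 77,nat_lit 10)])) (.leaf [(nat_lit 38,nat_lit 7),(nat_lit 39,nat_lit 6),(nat_lit 40,nat_lit 6),(nat_lit 41,nat_lit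 7)])) (.node (.leaf [(nat_lit 22,nat_lit 7),(nat_lit 23,nat_lit 6),(nat_lit 24,nat_lit 6),(nat_lit 25,nat_lit 6)]) (.leaf [(nat_lit 50,nat_lit 7),(nat_lit 52,nat_lit 7),(nat_lit 55,nat_lit 6),(nat_lit 56,nat_lit 6)]))) (.node (.node (.leaf [(nat_lit 15,nat_lit 6),(nat_lit 16,nat_lit 7),(nat_lit 19,nat_lit 6),(nat_lit 20,nat_lit 7)]) (.leaf [(nat_lit 43,nat_lit 7),(nat_lit 44,nat_lit 6),(nat_lit 47,nat_lit 6),(nat_lit 49,nat_lit 7)])) (.node (.leaf [(nat_lit 31,nat_lit 6),(nat_lit 32,nat_lit 7),(nat_lit 35,nat_lit 6),(nat_lit 36,nat_lit 6)]) (.leaf [(nat_lit 58,nat_lit 3),(nat_lit 59,nat_lit 10),(nat_lit 60,nat_lit 10),(nat_lit 61,nat_lit 10),(nat_lit 62,nat_lit 3),(nat_lit 63,nat_lit 3),(nat_lit 65,nat_lit 3),(nat_lit 66,nat_lit 3),(nat_lit 68,nat_lit 3),(nat_lit 69,nat_lit 10),(nat_lit 70,nat_lit 10),(nat_lit 71,nat_lit 3),(nat_lit 73,nat_lit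 3),(nat_lit 74,nat_lit 3),(nat_lit 75,nat_lit 10),(nat_lit 77,nat_lit 10)])))))))
def mI : BT (List (Nat × Nat)) := (.node (.node (.node (.node (.node (.node (.node (.leaf [(nat_lit 0,nat_lit 1)]) (.leaf [(nat_lit 64,nat_lit 1)])) (.leaf [(nat_lit 32,nat_lit 1)])) (.node (.leaf [(nat_lit 16,nat_lit 1)]) (.leaf [(nat_lit 48,nat_lit 1)]))) (.node (.node (.node (.leaf [(nat_lit 8,nat_lit 1)]) (.leaf [(nat_lit 72,nat_lit 1)])) (.leaf [(nat_lit 40,nat_lit 1)])) (.node (.leaf [(nat_lit 24,nat_lit 1)]) (.leaf [(nat_lit 56,nat_lit 1)])))) (.node (.node (.node (.node (.leaf [(nat_lit 4,nat_lit 1)]) (.leaf [(nat_lit 68,nat_lit 1)])) (.leaf [(nat_lit 36,nat_lit 1)])) (.node (.leaf [(nat_lit 20,nat_lit 1)]) (.leaf [(nat_lit 52,nat_lit 1)]))) (.node (.node (.node (.leaf [(nat_lit 12,nat_lit 1)]) (.leaf [(nat_lit 76,nat_lit 1)])) (.leaf [(nat_lit 44,nat_lit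 1)])) (.node (.leaf [(nat_lit 28,nat_lit 1)]) (.leaf [(nat_lit 60,nat_lit 1)]))))) (.node (.node (.node (.node (.node (.leaf [(nat_lit 2,nat_lit 1)]) (.leaf [(nat_lit 66,nat_lit 1)])) (.leaf [(nat_lit 34,nat_lit 1)])) (.node (.leaf [(nat_lit 18,nat_lit 1)]) (.leaf [(nat_lit 50,nat_lit 1)]))) (.node (.node (.node (.leaf [(nat_lit 10,nat_lit 1)]) (.leaf [(nat_lit 74,nat_lit 1)])) (.leaf [(nat_lit 42,nat_lit 1)])) (.node (.leaf [(nat_lit 26,nat_lit 1)]) (.leaf [(nat_lit 58,nat_lit 1)])))) (.node (.node (.node (.node (.leaf [(nat_lit 6,nat_lit 1)]) (.leaf [(nat_lit 70,nat_lit 1)])) (.leaf [(nat_lit 38,nat_lit 1)])) (.node (.leaf [(nat_lit 22,nat_lit 1)]) (.leaf [(nat_lit 54,nat_lit 1)]))) (.node (.node (.leaf [(nat_lit 14,nat_lit 1)]) (.leaf [(nat_lit 46,nat_lit 1)])) (.node (.leaf [(nat_lit 30,nat_lit 1)]) (.leaf [(nat_lit 62,nat_lit 1)])))))) (.node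 (.node (.node (.node (.node (.node (.leaf [(nat_lit 1,nat_lit 1)]) (.leaf [(nat_lit 65,nat_lit 1)])) (.leaf [(nat_lit 33,nat_lit 1)])) (.node (.leaf [(nat_lit 17,nat_lit 1)]) (.leaf [(nat_lit 49,nat_lit 1)]))) (.node (.node (.node (.leaf [(nat_lit 9,nat_lit 1)]) (.leaf [(nat_lit 73,nat_lit 1)])) (.leaf [(nat_lit 41,nat_lit 1)])) (.node (.leaf [(nat_lit 25,nat_lit 1)]) (.leaf [(nat_lit 57,nat_lit 1)])))) (.node (.node (.node (.node (.leaf [(nat_lit 5,nat_lit 1)]) (.leaf [(nat_lit 69,nat_lit 1)])) (.leaf [(nat_lit 37,nat_lit 1)])) (.node (.leaf [(nat_lit 21,nat_lit 1)]) (.leaf [(nat_lit 53,nat_lit 1)]))) (.node (.node (.node (.leaf [(nat_lit 13,nat_lit 1)]) (.leaf [(nat_lit 77,nat_lit 1)])) (.leaf [(nat_lit 45,nat_lit 1)])) (.node (.leaf [(nat_lit 29,nat_lit 1)]) (.leaf [(nat_lit 61,nat_lit 1)]))))) (.node (.node (.node (.node (.node (.leaf [(nat_lit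 3,nat_lit 1)]) (.leaf [(nat_lit 67,nat_lit 1)])) (.leaf [(nat_lit 35,nat_lit 1)])) (.node (.leaf [(nat_lit 19,nat_lit 1)]) (.leaf [(nat_lit 51,nat_lit 1)]))) (.node (.node (.node (.leaf [(nat_lit 11,nat_lit 1)]) (.leaf [(nat_lit 75,nat_lit 1)])) (.leaf [(nat_lit 43,nat_lit 1)])) (.node (.leaf [(nat_lit 27,nat_lit 1)]) (.leaf [(nat_lit 59,nat_lit 1)])))) (.node (.node (.node (.node (.leaf [(nat_lit 7,nat_lit 1)]) (.leaf [(nat_lit 71,nat_lit 1)])) (.leaf [(nat_lit 39,nat_lit 1)])) (.node (.leaf [(nat_lit 23,nat_lit 1)]) (.leaf [(nat_lit 55,nat_lit 1)]))) (.node (.node (.leaf [(nat_lit 15,nat_lit 1)]) (.leaf [(nat_lit 47,nat_lit 1)])) (.node (.leaf [(nat_lit 31,nat_lit 1)]) (.leaf [(nat_lit 63,nat_lit 1)])))))))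
def I : BT Nat := (.node (.node (.node (.node (.node (.node (.node (.leaf (nat_lit 0)) (.leaf (nat_lit 64))) (.leaf (nat_lit 32))) (.node (.leaf (nat_lit 16)) (.leaf (nat_lit 48)))) (.node (.node (.node (.leaf (nat_lit 8)) (.leaf (nat_lit 72))) (.leaf (nat_lit 40))) (.node (.leaf (nat_lit 24)) (.leaf (nat_lit 56))))) (.node (.node (.node (.node (.leaf (nat_lit 4)) (.leaf (nat_lit 68))) (.leaf (nat_lit 36))) (.node (.leaf (nat_lit 20)) (.leaf (nat_lit 52)))) (.node (.node (.node (.leaf (nat_lit 12)) (.leaf (nat_lit 76))) (.leaf (nat_lit 44))) (.node (.leaf (nat_lit 28)) (.leaf (nat_lit 60)))))) (.node (.node (.node (.node (.node (.leaf (nat_lit 2)) (.leaf (nat_lit 66))) (.leaf (nat_lit 34))) (.node (.leaf (nat_lit 18)) (.leaf (nat_lit 50)))) (.node (.node (.node (.leaf (nat_lit 10)) (.leaf (nat_lit 74))) (.leaf (nat_lit 42))) (.node (.leaf (nat_lit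 26)) (.leaf (nat_lit 58))))) (.node (.node (.node (.node (.leaf (nat_lit 6)) (.leaf (nat_lit 70))) (.leaf (nat_lit 38))) (.node (.leaf (nat_lit 22)) (.leaf (nat_lit 54)))) (.node (.node (.leaf (nat_lit 14)) (.leaf (nat_lit 46))) (.node (.leaf (nat_lit 30)) (.leaf (nat_lit 62))))))) (.node (.node (.node (.node (.node (.node (.leaf (nat_lit 1)) (.leaf (nat_lit 65))) (.leaf (nat_lit 33))) (.node (.leaf (nat_lit 17)) (.leaf (nat_lit 49)))) (.node (.node (.node (.leaf (nat_lit 9)) (.leaf (nat_lit 73))) (.leaf (nat_lit 41))) (.node (.leaf (nat_lit 25)) (.leaf (nat_lit 57))))) (.node (.node (.node (.node (.leaf (nat_lit 5)) (.leaf (nat_lit 69))) (.leaf (nat_lit 37))) (.node (.leaf (nat_lit 21)) (.leaf (nat_lit 53)))) (.node (.node (.node (.leaf (nat_lit 13)) (.leaf (nat_lit 77))) (.leaf (nat_lit 45))) (.node (.leaf (nat_lit 29)) (.leaf (nat_lit 61))))))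 (.node (.node (.node (.node (.node (.leaf (nat_lit 3)) (.leaf (nat_lit 67))) (.leaf (nat_lit 35))) (.node (.leaf (nat_lit 19)) (.leaf (nat_lit 51)))) (.node (.node (.node (.leaf (nat_lit 11)) (.leaf (nat_lit 75))) (.leaf (nat_lit 43))) (.node (.leaf (nat_lit 27)) (.leaf (nat_lit 59))))) (.node (.node (.node (.node (.leaf (nat_lit 7)) (.leaf (nat_lit 71))) (.leaf (nat_lit 39))) (.node (.leaf (nat_lit 23)) (.leaf (nat_lit 55)))) (.node (.node (.leaf (nat_lit 15)) (.leaf (nat_lit 47))) (.node (.leaf (nat_lit 31)) (.leaf (nat_lit 63))))))))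
def Ms (g : Nat) : BT (List (Nat × Nat)) := [m0,m1,m2,m3,m4,m5,m6,m7,m8].getD g mI
theorem h0 : allLt 78 (fun i => Nat.beq (I.sel i) i) = true := by decide +kernel
theorem h1 : allLt 10 (fun g => okS 78 8 (Ms g)) = true := by decide +kernel
theorem q0 : chkW 78 13 8 I Ms [0, 0] = true := by decide +kernel
theorem q1 : chkW 78 13 8 I Ms [1, 1] = true := by decide +kernel
theorem q2 : chkW 78 13 8 I Ms [2, 2] = true := by decide +kernel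
theorem q3 : chkW 78 13 8 I Ms [3, 3] = true := by decide +kernel
theorem q4 : chkW 78 13 8 I Ms [4, 4] = true := by decide +kernel
theorem q5 : chkW 78 13 8 I Ms [5, 5] = true := by decide +kernel
theorem q6 : chkW 78 13 8 I Ms [6, 6] = true := by decide +kernel
theorem q7 : chkW 78 13 8 I Ms [7, 7] = true := by decide +kernel
theorem q8 : chkW 78 13 8 I Ms [8, 8] = true := by decide +kernel
theorem q9 : chkW 78 13 8 I Ms [9, 9] = true := by decide +kernel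
theorem r0 : chkW 78 13 8 I Ms (F22.R0.getD 0 []) = true := by decide +kernel
theorem r1 : chkW 78 13 8 I Ms (F22.R0.getD 1 []) = true := by decide +kernel
theorem r2 : chkW 78 13 8 I Ms (F22.R0.getD 2 []) = true := by decide +kernel
theorem r3 : chkW 78 13 8 I Ms (F22.R0.getD 3 []) = true := by decide +kernel
theorem r4 : chkW 78 13 8 I Ms (F22.R0.getD 4 []) = true := by decide +kernel
theorem r5 : chkW 78 13 8 I Ms (F22.R0.getD 5 []) = true := by decide +kernel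
theorem r6 : chkW 78 13 8 I Ms (F22.R0.getD 6 []) = true := by decide +kernel
theorem r7 : chkW 78 13 8 I Ms (F22.R0.getD 7 []) = true := by decide +kernel
theorem r8 : chkW 78 13 8 I Ms (F22.R0.getD 8 []) = true := by decide +kernel
theorem r9 : chkW 78 13 8 I Ms (F22.R0.getD 9 []) = true := by decide +kernel
theorem r10 : chkW 78 13 8 I Ms (F22.R0.getD 10 []) = true := by decide +kernel
theorem r11 : chkW 78 13 8 I Ms (F22.R0.getD 11 []) = true := by decide +kernel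
theorem r12 : chkW 78 13 8 I Ms (F22.R0.getD 12 []) = true := by decide +kernel
theorem r13 : chkW 78 13 8 I Ms (F22.R0.getD 13 []) = true := by decide +kernel
theorem r14 : chkW 78 13 8 I Ms (F22.R0.getD 14 []) = true := by decide +kernel
theorem r15 : chkW 78 13 8 I Ms (F22.R0.getD 15 []) = true := by decide +kernel
theorem r16 : chkW 78 13 8 I Ms (F22.R0.getD 16 []) = true := by decide +kernel
theorem r17 : chkW 78 13 8 I Ms (F22.R0.getD 17 []) = true := by decide +kernel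
theorem r18 : chkW 78 13 8 I Ms (F22.R0.getD 18 []) = true := by decide +kernel
theorem r19 : chkW 78 13 8 I Ms (F22.R0.getD 19 []) = true := by decide +kernel
theorem r20 : chkW 78 13 8 I Ms (F22.R0.getD 20 []) = true := by decide +kernel
theorem r21 : chkW 78 13 8 I Ms (F22.R0.getD 21 []) = true := by decide +kernel
theorem r22 : chkW 78 13 8 I Ms (F22.R0.getD 22 []) = true := by decide +kernel
theorem r23 : chkW 78 13 8 I Ms (F22.R0.getD 23 []) = true := by decide +kernel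
theorem r24 : chkW 78 13 8 I Ms (F22.R0.getD 24 []) = true := by decide +kernel
theorem r25 : chkW 78 13 8 I Ms (F22.R0.getD 25 []) = true := by decide +kernel
theorem r26 : chkW 78 13 8 I Ms (F22.R0.getD 26 []) = true := by decide +kernel
theorem r27 : chkW 78 13 8 I Ms (F22.R0.getD 27 []) = true := by decide +kernel
theorem r28 : chkW 78 13 8 I Ms (F22.R0.getD 28 []) = true := by decide +kernel
theorem r29 : chkW 78 13 8 I Ms (F22.R0.getD 29 []) = true := by decide +kernel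
theorem r30 : chkW 78 13 8 I Ms (F22.R0.getD 30 []) = true := by decide +kernel
theorem r31 : chkW 78 13 8 I Ms (F22.R0.getD 31 []) = true := by decide +kernel
theorem r32 : chkW 78 13 8 I Ms (F22.R0.getD 32 []) = true := by decide +kernel
theorem r33 : chkW 78 13 8 I Ms (F22.R0.getD 33 []) = true := by decide +kernel
theorem r34 : chkW 78 13 8 I Ms (F22.R0.getD 34 []) = true := by decide +kernel
theorem r35 : chkW 78 13 8 I Ms (F22.R0.getD 35 []) = true := by decide +kernel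
theorem r36 : chkW 78 13 8 I Ms (F22.R0.getD 36 []) = true := by decide +kernel
theorem r37 : chkW 78 13 8 I Ms (F22.R0.getD 37 []) = true := by decide +kernel
theorem r38 : chkW 78 13 8 I Ms (F22.R0.getD 38 []) = true := by decide +kernel
theorem hq : ∀ g < 10, chkW 78 13 8 I Ms [g, g] = true := by
  intro g hg
  interval_cases g
  exacts [q0, q1, q2, q3, q4, q5, q6, q7, q8, q9]
theorem hr : ∀ k < 39, chkW 78 13 8 I Ms (F22.R0.getD k []) = true := by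
  intro g hg
  interval_cases g
  exacts [r0, r1, r2, r3, r4, r5, r6, r7, r8, r9, r10, r11, r12, r13, r14, r15, r16, r17, r18, r19, r20, r21, r22, r23, r24, r25, r26, r27, r28, r29, r30, r31, r32, r33, r34, r35, r36, r37, r38]
end CA.Mat.R78
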